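import Cfsg.Agent.H373.Cand2
import Mathlib.GroupTheory.SpecificGroups.Alternating
import Mathlib.GroupTheory.Perm.Cycle.Type

/-!
# `Cand2`: elimination by the order, alternating groups (helper224)
-/

set_option autoImplicit false

namespace Cfsg.Agent.H224.CandElim

open Cfsg.Agent.H373.C2 Cfsg.Agent.H373.T5

theorem le_N_mul {m : ℕ} (hm : 2 ≤ m) : 2 ^ (6 * m) ≤ 8 * (N m * ((2 ^ m) ^ 2 + 1)) := by
  have hq : 4 ≤ 2 ^ m := by
    calc 4 = 2 ^ 2 := rfl
      _ ≤ 2 ^ m := Nat.pow_le_pow_right (by norm_num) hm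
  have h1 : M (2 ^ m) ≤ 5 * N m := by
    have h2 := N_mul m
    rcases gcd_eq m with h | h <;> rw [h] at h2 <;> omega
  have h2 : 3 * (2 ^ m) ^ 4 ≤ 4 * M (2 ^ m) := by
    rw [M]
    generalize 2 ^ m = q at hq
    obtain ⟨r, rfl⟩ : ∃ r, q = r + 1 := ⟨q - 1, by omega⟩
    simp only [Nat.add_sub_cancel]
    have h3 : 3 * (r + 1) ≤ 4 * r := by omega
    have h4 : 3 * (r + 1) ^ 4 ≤ 4 * ((r + 1) ^ 3 * r) := by
      calc 3 * (r + 1) ^ 4 = (r + 1) ^ 3 * (3 * (r + 1)) := by ring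
        _ ≤ (r + 1) ^ 3 * (4 * r) := Nat.mul_le_mul_left _ h3
        _ = 4 * ((r + 1) ^ 3 * r) := by ring
    omega
  have h3 : 3 * (2 ^ m) ^ 4 ≤ 20 * N m := by omega
  have h4 : 3 * (2 ^ m) ^ 4 * (2 ^ m) ^ 2 ≤ 20 * N m * ((2 ^ m) ^ 2 + 1) :=
    Nat.mul_le_mul h3 (Nat.le_succ _)
  have h5 : 2 ^ (6 * m) = (2 ^ m) ^ 4 * (2 ^ m) ^ 2 := by rw [← pow_add, ← pow_mul, mul_comm]
  rw [h5]
  have h6 : 3 * ((2 ^ m) ^ 4 * (2 ^ m) ^ 2) ≤ 20 * (N m * ((2 ^ m) ^ 2 + 1)) := by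
    calc 3 * ((2 ^ m) ^ 4 * (2 ^ m) ^ 2) = 3 * (2 ^ m) ^ 4 * (2 ^ m) ^ 2 := by ring
      _ ≤ 20 * N m * ((2 ^ m) ^ 2 + 1) := h4
      _ = 20 * (N m * ((2 ^ m) ^ 2 + 1)) := by ring
  omega

/-- Elimination by the order alone. -/
theorem elim_card {m : ℕ} {S : Type*} [Group S] (h : Cand2 m S) {c : ℕ} (B : ℕ) (hc : Nat.card S = c)
    (hpos : 0 < c) (hB : 8 * c < 2 ^ (6 * B))
    (hbad : ∀ m < B, 2 ≤ m → ¬ N m * ((2 ^ m) ^ 2 + 1) ∣ c) : False := by
  have h1 := h.N_mul_dvd_card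
  rw [hc] at h1
  rcases Nat.lt_or_ge m B with h2 | h2
  · exact hbad m h2 h.two_le h1
  · have h3 := Nat.le_of_dvd hpos h1
    have h4 := le_N_mul h.two_le
    have h5 : 2 ^ (6 * B) ≤ 2 ^ (6 * m) := Nat.pow_le_pow_right (by norm_num) (by omega)
    omega

/-- The alternating groups. -/
theorem alt {m n : ℕ} (hn : 5 ≤ n) (h : Cand2 m ↥(alternatingGroup (Fin n))) : False := by
  rcases Nat.lt_or_ge n 13 with h13 | h13
  · have hc : 2 * Nat.card ↥(alternatingGroup (Fin n)) = n.factorial := by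
      have : Nontrivial (Fin n) := Fin.nontrivial_iff_two_le.2 (by omega)
      rw [Nat.card_eq_fintype_card, two_mul_card_alternatingGroup, Fintype.card_perm, Fintype.card_fin]
    have h2 : Nat.card ↥(alternatingGroup (Fin n)) = n.factorial / 2 := by omega
    refine elim_card h 6 h2 (by rw [← h2]; exact Nat.card_pos) ?_ ?_
    · interval_cases n <;> decide +kernel
    · interval_cases n <;> decide +kernel
  · -- an element of order 24
    have hct : ∃ g : Equiv.Perm (Fin n), g.cycleType = {8, 3, 2} := by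
      rw [Equiv.Perm.exists_with_cycleType_iff]
      refine ⟨?_, ?_⟩
      · rw [Fintype.card_fin]
        show (8 + (3 + (2 + 0)) : ℕ) ≤ n
        omega
      · decide
    obtain ⟨g, hg⟩ := hct
    have hs : g ∈ alternatingGroup (Fin n) := by
      rw [Equiv.Perm.mem_alternatingGroup, Equiv.Perm.sign_of_cycleType, hg]
      decide
    have ho : orderOf g = 24 := by
      rw [← Equiv.Perm.lcm_cycleType, hg]
      decide
    have ho' : orderOf (⟨g, hs⟩ : ↥(alternatingGroup (Fin n))) = 24 := by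
      rw [← ho, ← Subgroup.orderOf_coe]
    have := h.eight ⟨g, hs⟩ (by rw [ho']; exact ⟨3, rfl⟩)
    omega

end Cfsg.Agent.H224.CandElim
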