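import Cfsg.Agent.H224.CandAlt
import Cfsg.Agent.H437.Spor

/-!
# `Cand2`: elimination of the sporadic groups and the Tits group (helper224)
-/

set_option autoImplicit false

namespace Cfsg.Agent.H224.CandElim

open Cfsg.Agent.H373.C2 Cfsg.Agent.H373.T5 Cfsg.Agent.H437

theorem spor_bad : ∀ c ∈ sporList, 0 < c ∧ 8 * c < 2 ^ (6 * 31) ∧
    ∀ m < 31, 2 ≤ m → N m * ((2 ^ m) ^ 2 + 1) ∣ c →
      m = 2 ∧ 7 ∣ c := by
  decide +kernel

theorem order_seven : orderOf (2 : ZMod 7) = 3 := by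
  apply orderOf_eq_prime
  · decide
  · decide

/-- The sporadic groups and the Tits group. -/
theorem spor {m : ℕ} {S : Type*} [Group S] (hS : Cfsg.Lie.IsoTits S ∨ Cfsg.IsSporadicGroup S) (h : Cand2 m S) :
    False := by
  obtain ⟨h1, h2, h3⟩ := spor_bad _ (spor_mem hS)
  have h4 := h.N_mul_dvd_card
  rcases Nat.lt_or_ge m 31 with h5 | h5
  · obtain ⟨rfl, h6⟩ := h3 m h5 h.two_le h4
    have h7 := h.prime_ok 7 (by norm_num) (by norm_num) h6
    rw [order_seven, Ok] at h7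
    revert h7
    decide
  · have h6 := Nat.le_of_dvd h1 h4
    have h7 := le_N_mul h.two_le
    have h8 : 2 ^ (6 * 31) ≤ 2 ^ (6 * m) := Nat.pow_le_pow_right (by norm_num) (by omega)
    omega

end Cfsg.Agent.H224.CandElim
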