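import Cfsg.Agent.H224.E8Fus

/-!
# Part T3b of S2654: the fusion facts (helper224)
-/

set_option autoImplicit false

namespace Cfsg.Agent.H224.E8

open Module

variable {K V : Type*} [Field K] [AddCommGroup V] [Module K V] {w : K}

/-! ### The fusion facts -/

theorem f_one (hw : IsPrimitiveRoot w 3) {ρ : ↥P18 →* Module.End K V} (hfus : Fus ρ) {a b e : ℕ}
    (ha : a = 1 ∨ a = 2) (hb : b = 1 ∨ b = 2) (he : e = 1 ∨ e = 2) (z : K) :
    NN w ρ cP ![1, 1, 1, 1, 1, 1] z = NN w ρ cP ![1, 1, 1, a, b, e] z := by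
  rcases ha with rfl | rfl <;> rcases hb with rfl | rfl <;> rcases he with rfl | rfl
  · rfl
  · exact NN_fus hw hfus [(16, 17), (12, 15), (13, 16), (14, 17)] (by decide +kernel) (by decide)
      (by decide +kernel) ![0, 1, 2, 3, 5, 4] (by decide) ![1, 1, 1, 1, 2, 1] (by decide) (by decide +kernel)
      _ _ (by decide) z
  · exact NN_fus hw hfus [(13, 14), (12, 15), (13, 16), (14, 17)] (by decide +kernel) (by decide)
      (by decide +kernel) ![0, 1, 2, 3, 5, 4] (by decide) ![1, 1, 1, 1, 1, 2] (by decide) (by decide +kernel)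
      _ _ (by decide) z
  · exact NN_fus hw hfus [(13, 14), (16, 17)] (by decide +kernel) (by decide)
      (by decide +kernel) id (by decide) ![1, 1, 1, 1, 2, 2] (by decide) (by decide +kernel)
      _ _ (by decide) z
  · exact NN_fus hw hfus [(10, 11), (12, 15), (13, 16), (14, 17)] (by decide +kernel) (by decide)
      (by decide +kernel) ![0, 1, 2, 3, 5, 4] (by decide) ![1, 1, 1, 2, 1, 1] (by decide) (by decide +kernel)
      _ _ (by decide) z
  · exact NN_fus hw hfus [(10, 11), (16, 17)] (by decide +kernel) (by decide)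
      (by decide +kernel) id (by decide) ![1, 1, 1, 2, 1, 2] (by decide) (by decide +kernel)
      _ _ (by decide) z
  · exact NN_fus hw hfus [(10, 11), (13, 14)] (by decide +kernel) (by decide)
      (by decide +kernel) id (by decide) ![1, 1, 1, 2, 2, 1] (by decide) (by decide +kernel)
      _ _ (by decide) z
  · exact NN_fus hw hfus [(10, 11), (13, 14), (16, 17), (12, 15), (13, 16), (14, 17)] (by decide +kernel)
      (by decide) (by decide +kernel) ![0, 1, 2, 3, 5, 4] (by decide) ![1, 1, 1, 2, 2, 2] (by decide)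
      (by decide +kernel) _ _ (by decide) z

theorem f_two (hw : IsPrimitiveRoot w 3) {ρ : ↥P18 →* Module.End K V} (hfus : Fus ρ) (a b e k : ℕ) :
    NN w ρ cP ![1, 1, 1, a, b, e] (w ^ (2 * k)) = NN w ρ cP ![2, 2, 2, a, b, e] (w ^ k) := by
  rw [NN_fus hw hfus [(3, 8), (6, 5), (1, 2), (4, 7)] (by decide +kernel) (by decide) (γ' := cP⁻¹)
      (by decide +kernel) ![0, 2, 1, 3, 4, 5] (by decide) ![2, 2, 2, 1, 1, 1] (by decide) (by decide +kernel)
      _ ![2, 2, 2, a, b, e] (by intro i; fin_cases i <;> simp) _, NN_inv hw]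
  exact NN_congr hw _ _ _ (by omega)

theorem f_six (hw : IsPrimitiveRoot w 3) {ρ : ↥P18 →* Module.End K V} (hfus : Fus ρ) (z : K) :
    NN w ρ cP ![1, 1, 1, 1, 1, 1] z = NN w ρ dP ![1, 1, 1, 1, 1, 1] z :=
  NN_fus hw hfus [(0, 3), (1, 4), (2, 5), (0, 9), (1, 10), (2, 11), (3, 12), (4, 13), (5, 14), (6, 15), (7, 16),
      (8, 17)] (by decide +kernel) (by decide) (by decide +kernel) ![3, 4, 5, 1, 0, 2] (by decide)
      ![1, 1, 1, 1, 1, 1] (by decide) (by decide +kernel) _ _ (by decide) z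

theorem f_six' (hw : IsPrimitiveRoot w 3) {ρ : ↥P18 →* Module.End K V} (hfus : Fus ρ) (k : ℕ) :
    NN w ρ dP ![1, 1, 1, 1, 1, 1] (w ^ (2 * k)) = NN w ρ dP ![1, 1, 1, 2, 2, 2] (w ^ k) := by
  rw [NN_fus hw hfus [(12, 17), (15, 14), (10, 11), (13, 16)] (by decide +kernel) (by decide) (γ' := dP⁻¹)
      (by decide +kernel) ![0, 1, 2, 3, 5, 4] (by decide) ![1, 1, 1, 2, 2, 2] (by decide) (by decide +kernel)
      _ ![1, 1, 1, 2, 2, 2] (by decide) _, NN_inv hw]
  exact NN_congr hw _ _ _ (by omega)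

theorem f_seven (hw : IsPrimitiveRoot w 3) {ρ : ↥P18 →* Module.End K V} (hfus : Fus ρ) (k : ℕ) :
    NN w ρ (cP * dP) ![1, 1, 1, 1, 1, 1] (w ^ (2 * k)) = NN w ρ (cP * dP) ![2, 2, 2, 2, 2, 2] (w ^ k) := by
  rw [NN_fus hw hfus [(3, 8), (6, 5), (1, 2), (4, 7), (12, 17), (15, 14), (10, 11), (13, 16)] (by decide +kernel)
      (by decide) (γ' := (cP * dP)⁻¹)
      (by decide +kernel) ![0, 2, 1, 3, 5, 4] (by decide) ![2, 2, 2, 2, 2, 2] (by decide) (by decide +kernel)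
      _ ![2, 2, 2, 2, 2, 2] (by decide) _, NN_inv hw]
  exact NN_congr hw _ _ _ (by omega)

theorem f_seven' (hw : IsPrimitiveRoot w 3) {ρ : ↥P18 →* Module.End K V} (hfus : Fus ρ) (k : ℕ) :
    NN w ρ (cP * dP) ![1, 1, 1, 2, 2, 2] (w ^ (2 * k)) = NN w ρ (cP * dP) ![2, 2, 2, 1, 1, 1] (w ^ k) := by
  rw [NN_fus hw hfus [(3, 8), (6, 5), (1, 2), (4, 7), (12, 17), (15, 14), (10, 11), (13, 16)] (by decide +kernel)
      (by decide) (γ' := (cP * dP)⁻¹)
      (by decide +kernel) ![0, 2, 1, 3, 5, 4] (by decide) ![2, 2, 2, 2, 2, 2] (by decide) (by decide +kernel)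
      _ ![2, 2, 2, 1, 1, 1] (by decide) _, NN_inv hw]
  exact NN_congr hw _ _ _ (by omega)

theorem a_one {ρ : ↥P18 →* Module.End K V} (hfus : Fus ρ) :
    dd w ⊤ (ρ (cP * 1)) = dd w ⊤ (ρ (cP * xP 0)) :=
  dd_fus hfus [(1, 2), (3, 4), (6, 7), (9, 10)] (by decide +kernel) (by decide) (by decide +kernel)

theorem a_two {ρ : ↥P18 →* Module.End K V} (hfus : Fus ρ) :
    dd w ⊤ (ρ (cP * dP * 1)) = dd w ⊤ (ρ (cP * dP * xP 3)) :=
  dd_fus hfus [(0, 9), (1, 11), (11, 2), (2, 10), (3, 13), (13, 4), (4, 12), (5, 14), (6, 16), (16, 7), (7, 15),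
    (8, 17)] (by decide +kernel) (by decide) (by decide +kernel)

theorem a_three {ρ : ↥P18 →* Module.End K V} (hfus : Fus ρ) :
    dd w ⊤ (ρ (cP * dP * (xP 0 * xP 0 * (xP 3 * xP 3)))) =
      dd w ⊤ (ρ (cP * (xP 0 * xP 0 * (xP 3 * xP 4 * xP 5)))) :=
  dd_fus hfus [(0, 1), (3, 5), (6, 8), (10, 12), (12, 13), (13, 16), (16, 17), (17, 11), (11, 15), (15, 14)]
    (by decide +kernel) (by decide) (by decide +kernel)

theorem a_four {ρ : ↥P18 →* Module.End K V} (hfus : Fus ρ) :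
    dd w ⊤ (ρ (cP * dP * (xP 3 * xP 3))) = dd w ⊤ (ρ (cP * (xP 3 * xP 4 * xP 5))) :=
  dd_fus hfus [(9, 12), (12, 10), (11, 15), (13, 16), (16, 17), (17, 14)]
    (by decide +kernel) (by decide) (by decide +kernel)

end Cfsg.Agent.H224.E8
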