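import Cfsg.Agent.H224.E8Lin

/-!
# Part T3b of S2654: reduction to weights constant on the blocks (helper224)
-/

set_option autoImplicit false

namespace Cfsg.Agent.H224.E8

open Module

section Grp

variable {G : Type*} [Group G] {a b c g : G}

theorem grp1 (hab : a * b = b * a) (hb : b ^ 3 = 1) : (a⁻¹ * b) * (a * b * c) = b⁻¹ * c := by
  have h1 : b * b = b⁻¹ := by rw [eq_inv_iff_mul_eq_one, ← hb, pow_succ, sq]
  calc (a⁻¹ * b) * (a * b * c) = a⁻¹ * (b * a) * b * c := by simp only [mul_assoc]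
    _ = a⁻¹ * (a * b) * b * c := by rw [hab]
    _ = b * b * c := by rw [← mul_assoc a⁻¹, inv_mul_cancel, one_mul]
    _ = b⁻¹ * c := by rw [h1]

theorem grp2 (h : g * a = b * g) : g * a⁻¹ = b⁻¹ * g := by
  rw [eq_inv_mul_iff_mul_eq, ← mul_assoc, ← h, mul_inv_cancel_right]

theorem grp3 (h : g * a = b * g) (h' : g * b = c * g) : g * (a⁻¹ * b) = (b⁻¹ * c) * g := by
  rw [← mul_assoc, grp2 h, mul_assoc, h', mul_assoc]

theorem grp4 (hab : a * b = b * a) (hac : a * c = c * a) (h : g * a = b * g) (h' : g * b = c * g)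
    (h'' : g * c = a * g) : g * (a * b * c) = (a * b * c) * g := by
  calc g * (a * b * c) = (g * a) * b * c := by simp only [mul_assoc]
    _ = b * (g * b) * c := by rw [h]; simp only [mul_assoc]
    _ = b * c * (g * c) := by rw [h']; simp only [mul_assoc]
    _ = (b * c) * a * g := by rw [h'']; simp only [mul_assoc]
    _ = (a * b * c) * g := by rw [hab, mul_assoc b a c, hac, mul_assoc b c a]

end Grp

variable {K V : Type*} [Field K] [AddCommGroup V] [Module K V]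

section Act

variable (ρ : ↥P18 →* Module.End K V)

theorem act_mul (p q : ↥P18) (v : V) : ρ (p * q) v = ρ p (ρ q v) := by rw [map_mul]; rfl

theorem act_inv (p : ↥P18) (v : V) : ρ p⁻¹ (ρ p v) = v := by
  rw [← act_mul, inv_mul_cancel, map_one]; rfl

theorem act_inv' (p : ↥P18) (v : V) : ρ p (ρ p⁻¹ v) = v := by
  rw [← act_mul, mul_inv_cancel, map_one]; rfl

theorem act_cube {p : ↥P18} (h : p ^ 3 = 1) (v : V) : ρ p (ρ p (ρ p v)) = v := by
  rw [← act_mul, ← act_mul, show p * p * p = p ^ 3 by rw [pow_succ, sq], h, map_one]; rfl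

theorem act_eq {p q r s : ↥P18} (h : p * q = r * s) (v : V) : ρ p (ρ q v) = ρ r (ρ s v) := by
  rw [← act_mul, ← act_mul, h]

theorem xP_comm (i j : Fin 6) : xP i * xP j = xP j * xP i := Subtype.ext (x_comm i j)

theorem xP_cube (i : Fin 6) : xP i ^ 3 = 1 := Subtype.ext (x_cube i)

/-- The subspace on which `x i = x j = x k`. -/
def SE (i j k : Fin 6) : Submodule K V where
  carrier := {v | ρ (xP j) v = ρ (xP i) v ∧ ρ (xP k) v = ρ (xP i) v}
  add_mem' := by
    rintro a b ⟨ha, ha'⟩ ⟨hb, hb'⟩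
    exact ⟨by rw [map_add, map_add, ha, hb], by rw [map_add, map_add, ha', hb']⟩
  zero_mem' := ⟨by rw [map_zero, map_zero], by rw [map_zero, map_zero]⟩
  smul_mem' := by
    rintro r a ⟨ha, ha'⟩
    exact ⟨by rw [map_smul, map_smul, ha], by rw [map_smul, map_smul, ha']⟩

theorem mem_SE {i j k : Fin 6} {v : V} :
    v ∈ SE ρ i j k ↔ ρ (xP j) v = ρ (xP i) v ∧ ρ (xP k) v = ρ (xP i) v := Iff.rfl

/-- `SE` is the common fixed space of `z` and `b`. -/
theorem SE_eq {i j k : Fin 6} (S : Submodule K V) :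
    (S ⊓ eig (ρ (xP i * xP j * xP k)) 1) ⊓ eig (ρ ((xP i)⁻¹ * xP j)) 1 = S ⊓ SE ρ i j k := by
  have hcomm : ∀ (i j : Fin 6) (v : V), ρ (xP i) (ρ (xP j) v) = ρ (xP j) (ρ (xP i) v) := fun i j v =>
    act_eq ρ (xP_comm i j) v
  have hcube : ∀ (i : Fin 6) (v : V), ρ (xP i) (ρ (xP i) (ρ (xP i) v)) = v := fun i v =>
    act_cube ρ (xP_cube i) v
  apply le_antisymm
  · intro v hv
    have hS : v ∈ S := hv.1.1
    have hz : ρ (xP i * xP j * xP k) v = (1 : K) • v := hv.1.2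
    have hb : ρ ((xP i)⁻¹ * xP j) v = (1 : K) • v := hv.2
    rw [one_smul, act_mul] at hb
    rw [one_smul, act_mul, act_mul] at hz
    have h1 : ρ (xP j) v = ρ (xP i) v := by
      have := congrArg (ρ (xP i)) hb
      rwa [act_inv'] at this
    refine ⟨hS, h1, ?_⟩
    rw [hcomm j k, h1, hcomm k i, hcomm i i] at hz
    have h2 := congrArg (ρ (xP i)) hz
    rw [hcube] at h2
    exact h2
  · intro v hv
    have h1 : ρ (xP j) v = ρ (xP i) v := hv.2.1
    have h2 : ρ (xP k) v = ρ (xP i) v := hv.2.2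
    refine ⟨⟨hv.1, ?_⟩, ?_⟩
    · show ρ (xP i * xP j * xP k) v = (1 : K) • v
      rw [one_smul, act_mul, act_mul, h2, hcomm j i, h1, hcube]
    · show ρ ((xP i)⁻¹ * xP j) v = (1 : K) • v
      rw [one_smul, act_mul, h1, act_inv]

variable {w : K} [FiniteDimensional K V]

/-- Reduction for one block. -/
theorem dd_block (hw : IsPrimitiveRoot w 3) {i j k : Fin 6} {γ : ↥P18} (h0 : γ * xP i = xP j * γ)
    (h1 : γ * xP j = xP k * γ) (h2 : γ * xP k = xP i * γ) {S : Submodule K V}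
    (hi : ∀ v ∈ S, ρ (xP i) v ∈ S) (hi' : ∀ v ∈ S, ρ (xP i)⁻¹ v ∈ S) (hj : ∀ v ∈ S, ρ (xP j) v ∈ S)
    (hk : ∀ v ∈ S, ρ (xP k) v ∈ S) :
    dd w S (ρ γ) = dd w (S ⊓ SE ρ i j k) (ρ γ) := by
  have hcomm : ∀ (i j : Fin 6) (v : V), ρ (xP i) (ρ (xP j) v) = ρ (xP j) (ρ (xP i) v) := fun i j v =>
    act_eq ρ (xP_comm i j) v
  have hb3 : ((xP i)⁻¹ * xP j) ^ 3 = 1 := by
    have : Commute (xP i)⁻¹ (xP j) := Commute.inv_left (xP_comm i j)
    rw [this.mul_pow, inv_pow, xP_cube, xP_cube, inv_one, one_mul]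
  have hz3 : (xP i * xP j * xP k) ^ 3 = 1 := by
    have h3 : Commute (xP i * xP j) (xP k) := Commute.mul_left (xP_comm i k) (xP_comm j k)
    have h4 : Commute (xP i) (xP j) := xP_comm i j
    rw [h3.mul_pow, h4.mul_pow, xP_cube, xP_cube, xP_cube, one_mul, one_mul]
  have cij : Commute (xP i) (xP j) := xP_comm i j
  have cik : Commute (xP i) (xP k) := xP_comm i k
  have cjk : Commute (xP j) (xP k) := xP_comm j k
  have cz : ∀ l, l = i ∨ l = j → Commute (xP l) (xP i * xP j * xP k) := fun l _ =>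
    Commute.mul_right (Commute.mul_right (xP_comm l i) (xP_comm l j)) (xP_comm l k)
  rw [← SE_eq]
  refine dd_red hw (a := ρ (xP i)) hi ?_ ?_ (fun v _ => act_cube ρ (xP_cube i) v)
    (fun v _ => act_cube ρ hb3 v) (fun v _ => act_cube ρ hz3 v) ?_ ?_ ?_ ?_ ?_ ?_
  · intro v hv; rw [act_mul]; exact hi' _ (hj v hv)
  · intro v hv; rw [act_mul, act_mul]; exact hi _ (hj _ (hk v hv))
  · intro v _
    exact act_eq ρ (Commute.mul_right (Commute.inv_right (Commute.refl _)) cij) v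
  · intro v _
    exact act_eq ρ (cz i (Or.inl rfl)) v
  · intro v _
    exact act_eq ρ (Commute.mul_left (Commute.inv_left (cz i (Or.inl rfl))) (cz j (Or.inr rfl))) v
  · intro v _
    exact act_eq ρ (grp4 cij cik h0 h1 h2) v
  · intro v _
    rw [← act_mul ρ _ γ, ← act_mul ρ _ _ v, ← act_mul, grp3 h0 h1, ← grp1 cij (xP_cube j)]
    simp only [mul_assoc]
  · intro v _
    rw [← act_mul ρ _ γ, ← act_mul ρ _ _ v, ← act_mul, h0]
    simp only [mul_assoc, mul_inv_cancel_left]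

end Act

end Cfsg.Agent.H224.E8
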