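import Cfsg.Agent.H224.E8Facts

/-!
# Part T3b of S2654: the contradiction (helper224)
-/

set_option autoImplicit false

namespace Cfsg.Agent.H224.E8

open Module

variable {K V : Type*} [Field K] [AddCommGroup V] [Module K V] {w : K}

/-! ### Evaluation -/

theorem cx (i : Fin 6) : cP * xP i = xP (sc i) * cP := by
  have := c_x i
  rw [mul_inv_eq_iff_eq_mul] at this
  exact Subtype.ext this

theorem dx (i : Fin 6) : dP * xP i = xP (sd i) * dP := by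
  have := d_x i
  rw [mul_inv_eq_iff_eq_mul] at this
  exact Subtype.ext this

theorem cd_comm' : cP * dP = dP * cP := Subtype.ext cd_comm

theorem c3P : cP * cP * cP = xP 0 * xP 1 * xP 2 := Subtype.ext (by
    have := c_cube
    rw [pow_succ, sq] at this
    exact this)

theorem d3P : dP * dP * dP = xP 3 * xP 4 * xP 5 := Subtype.ext (by
    have := d_cube
    rw [pow_succ, sq] at this
    exact this)

theorem cc (e : ↥P18) (he : ∀ i, Commute e (xP i)) (i : Fin 6) : cP * e * xP i = xP (sc i) * (cP * e) := by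
  rw [mul_assoc, (he i).eq, ← mul_assoc, cx, mul_assoc]

theorem ccd (e : ↥P18) (he : ∀ i, Commute e (xP i)) (i : Fin 6) :
    cP * dP * e * xP i = xP (sc (sd i)) * (cP * dP * e) := by
  rw [mul_assoc, (he i).eq, ← mul_assoc, mul_assoc cP, dx, ← mul_assoc, cx]
  simp only [mul_assoc]

attribute [local irreducible] cP dP xP

theorem w_inv_c {ρ : ↥P18 →* Module.End K V} {m : Fin 6 → ℕ} (hm : ∀ j, m (sc j) = m j) :
    ∀ v ∈ WN w ρ m, ρ cP v ∈ WN w ρ m := by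
  intro v hv i
  obtain ⟨j, rfl⟩ : ∃ j, sc j = i := by revert i; decide
  have h1 : ρ (xP j) v = w ^ m j • v := hv j
  show ρ (xP (sc j)) (ρ cP v) = w ^ m (sc j) • ρ cP v
  rw [← act_eq ρ (cx j) v, h1, map_smul, hm]

theorem w_inv_d {ρ : ↥P18 →* Module.End K V} {m : Fin 6 → ℕ} (hm : ∀ j, m (sd j) = m j) :
    ∀ v ∈ WN w ρ m, ρ dP v ∈ WN w ρ m := by
  intro v hv i
  obtain ⟨j, rfl⟩ : ∃ j, sd j = i := by revert i; decide
  have h1 : ρ (xP j) v = w ^ m j • v := hv j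
  show ρ (xP (sd j)) (ρ dP v) = w ^ m (sd j) • ρ dP v
  rw [← act_eq ρ (dx j) v, h1, map_smul, hm]

theorem w_c3 (hw : IsPrimitiveRoot w 3) {ρ : ↥P18 →* Module.End K V} {m : Fin 6 → ℕ}
    (hm : (m 0 + m 1 + m 2) % 3 = 0) : ∀ v ∈ WN w ρ m, ρ cP (ρ cP (ρ cP v)) = v := by
  intro v hv
  rw [← act_mul, ← act_mul, c3P, act_mul, act_mul, hv 2, map_smul, hv 1, map_smul, map_smul, hv 0, smul_smul,
    smul_smul, ← pow_add, ← pow_add, pow_congr hw (show (m 2 + m 1 + m 0) % 3 = 0 % 3 by omega), pow_zero, one_smul]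

theorem w_d3 (hw : IsPrimitiveRoot w 3) {ρ : ↥P18 →* Module.End K V} {m : Fin 6 → ℕ}
    (hm : (m 3 + m 4 + m 5) % 3 = 0) : ∀ v ∈ WN w ρ m, ρ dP (ρ dP (ρ dP v)) = v := by
  intro v hv
  rw [← act_mul, ← act_mul, d3P, act_mul, act_mul, hv 5, map_smul, hv 4, map_smul, map_smul, hv 3, smul_smul,
    smul_smul, ← pow_add, ← pow_add, pow_congr hw (show (m 5 + m 4 + m 3) % 3 = 0 % 3 by omega), pow_zero, one_smul]

/-- Joint multiplicities of `c` and `d`. -/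
noncomputable def JJ (w : K) (ρ : ↥P18 →* Module.End K V) (m : Fin 6 → ℕ) (i j : ℕ) : ℕ :=
  finrank K (((WN w ρ m ⊓ eig (ρ cP) (w ^ i)) ⊓ eig (ρ dP) (w ^ j)) : Submodule K V)

theorem JJ_congr (hw : IsPrimitiveRoot w 3) (ρ : ↥P18 →* Module.End K V) (m : Fin 6 → ℕ) (i : ℕ) {j j' : ℕ}
    (h : j % 3 = j' % 3) : JJ w ρ m i j = JJ w ρ m i j' := by
  rw [JJ, JJ, pow_congr hw h]

section Fin

variable [FiniteDimensional K V]

theorem sum_c (hw : IsPrimitiveRoot w 3) {ρ : ↥P18 →* Module.End K V} {m : Fin 6 → ℕ}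
    (hm : ∀ j, m (sd j) = m j) (hm3 : (m 3 + m 4 + m 5) % 3 = 0) (i : ℕ) :
    NN w ρ cP m (w ^ i) = ∑ j ∈ Finset.range 3, JJ w ρ m i j := by
  rw [NN, split3 hw (X := ρ dP)]
  · rfl
  · rintro v ⟨h1, h2⟩
    refine ⟨w_inv_d hm v h1, ?_⟩
    show ρ cP (ρ dP v) = w ^ i • ρ dP v
    rw [act_eq ρ cd_comm' v, show ρ cP v = w ^ i • v from h2, map_smul]
  · rintro v ⟨h1, -⟩
    exact w_d3 hw hm3 v h1

theorem sum_d (hw : IsPrimitiveRoot w 3) {ρ : ↥P18 →* Module.End K V} {m : Fin 6 → ℕ}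
    (hm : ∀ j, m (sc j) = m j) (hm3 : (m 0 + m 1 + m 2) % 3 = 0) (j : ℕ) :
    NN w ρ dP m (w ^ j) = ∑ i ∈ Finset.range 3, JJ w ρ m i j := by
  rw [NN, split3 hw (X := ρ cP)]
  · refine Finset.sum_congr rfl fun i _ => ?_
    rw [JJ, inf_right_comm]
  · rintro v ⟨h1, h2⟩
    refine ⟨w_inv_c hm v h1, ?_⟩
    show ρ dP (ρ cP v) = w ^ j • ρ cP v
    rw [← act_eq ρ cd_comm' v, show ρ dP v = w ^ j • v from h2, map_smul]
  · rintro v ⟨h1, -⟩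
    exact w_c3 hw hm3 v h1

theorem sum_cd (hw : IsPrimitiveRoot w 3) {ρ : ↥P18 →* Module.End K V} {m : Fin 6 → ℕ}
    (hm : ∀ j, m (sc j) = m j) (hm3 : (m 0 + m 1 + m 2) % 3 = 0) (s : ℕ) :
    NN w ρ (cP * dP) m (w ^ s) = ∑ i ∈ Finset.range 3, JJ w ρ m i (s + 2 * i) := by
  rw [NN, split3 hw (X := ρ cP)]
  · refine Finset.sum_congr rfl fun i _ => ?_
    have key : ((WN w ρ m ⊓ eig (ρ (cP * dP)) (w ^ s)) ⊓ eig (ρ cP) (w ^ i) : Submodule K V) =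
        (WN w ρ m ⊓ eig (ρ cP) (w ^ i)) ⊓ eig (ρ dP) (w ^ (s + 2 * i)) := by
     ext v
     constructor
     · rintro ⟨⟨h1, h2⟩, h3⟩
       refine ⟨⟨h1, h3⟩, ?_⟩
       have h4 : ρ (cP * dP) v = w ^ s • v := h2
       have h5 : ρ cP v = w ^ i • v := h3
       rw [cd_comm', act_mul, h5, map_smul] at h4
       show ρ dP v = w ^ (s + 2 * i) • v
       have h6 : w ^ (2 * i) • (w ^ i • ρ dP v) = w ^ (2 * i) • (w ^ s • v) := congrArg _ h4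
       rw [smul_smul, ← pow_add, pow_congr hw (show (2 * i + i) % 3 = 0 % 3 by omega), pow_zero, one_smul,
         smul_smul, ← pow_add, add_comm] at h6
       exact h6
     · rintro ⟨⟨h1, h2⟩, h3⟩
       refine ⟨⟨h1, ?_⟩, h2⟩
       have h4 : ρ cP v = w ^ i • v := h2
       have h5 : ρ dP v = w ^ (s + 2 * i) • v := h3
       show ρ (cP * dP) v = w ^ s • v
       rw [cd_comm', act_mul, h4, map_smul, h5, smul_smul, ← pow_add,
         pow_congr hw (show (i + (s + 2 * i)) % 3 = s % 3 by omega)]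
    rw [key]
    rfl
  · rintro v ⟨h1, h2⟩
    refine ⟨w_inv_c hm v h1, ?_⟩
    show ρ (cP * dP) (ρ cP v) = w ^ s • ρ cP v
    have h3 : cP * dP * cP = cP * (cP * dP) := by rw [mul_assoc, ← cd_comm']
    rw [act_eq ρ h3 v, show ρ (cP * dP) v = w ^ s • v from h2, map_smul]
  · rintro v ⟨h1, -⟩
    exact w_c3 hw hm3 v h1

theorem one_eval (hw : IsPrimitiveRoot w 3) {ρ : ↥P18 →* Module.End K V} {e0 : ↥P18}
    (he : ∀ i, Commute e0 (xP i)) {s : ℕ → ℕ → ℕ → ℕ → ℕ}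
    (hs : ∀ t a b e, ∀ v ∈ WN w ρ ![t, t, t, a, b, e], ρ e0 v = w ^ s t a b e • v) :
    dd w ⊤ (ρ (cP * e0)) = ∑ t ∈ Finset.range 3, ∑ a ∈ Finset.range 3, ∑ b ∈ Finset.range 3,
      ∑ e ∈ Finset.range 3, ((NN w ρ cP ![t, t, t, a, b, e] (w ^ (2 * s t a b e)) : ℤ) -
        NN w ρ cP ![t, t, t, a, b, e] (w ^ (2 * s t a b e + 1))) := by
  rw [dd_one hw (cc e0 he 0) (cc e0 he 1) (cc e0 he 2) (cc e0 he 3) (cc e0 he 4) (cc e0 he 5)]
  refine Finset.sum_congr rfl fun t _ => Finset.sum_congr rfl fun a _ => Finset.sum_congr rfl fun b _ =>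
    Finset.sum_congr rfl fun e _ => ?_
  exact dd_shift hw (hs t a b e)

theorem two_eval (hw : IsPrimitiveRoot w 3) {ρ : ↥P18 →* Module.End K V} {e0 : ↥P18}
    (he : ∀ i, Commute e0 (xP i)) {s : ℕ → ℕ → ℕ}
    (hs : ∀ t a, ∀ v ∈ WN w ρ ![t, t, t, a, a, a], ρ e0 v = w ^ s t a • v) :
    dd w ⊤ (ρ (cP * dP * e0)) = ∑ t ∈ Finset.range 3, ∑ a ∈ Finset.range 3,
      ((NN w ρ (cP * dP) ![t, t, t, a, a, a] (w ^ (2 * s t a)) : ℤ) -
        NN w ρ (cP * dP) ![t, t, t, a, a, a] (w ^ (2 * s t a + 1))) := by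
  rw [dd_two hw (ccd e0 he 0) (ccd e0 he 1) (ccd e0 he 2) (ccd e0 he 3) (ccd e0 he 4) (ccd e0 he 5)]
  refine Finset.sum_congr rfl fun t _ => Finset.sum_congr rfl fun a _ => ?_
  exact dd_shift hw (hs t a)

end Fin

theorem xP_commute (i j : Fin 6) : Commute (xP i) (xP j) := xP_comm i j

/-- The sums over the weights with a constant non-zero first block. -/
theorem eval_block {g : ℕ → ℤ} {N : ℕ → ℕ → ℕ → ℕ → ℕ → ℤ}
    (H : ∀ t a b e k, (t = 1 ∨ t = 2) → a < 3 → b < 3 → e < 3 →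
      N t a b e k = if a ≠ 0 ∧ b ≠ 0 ∧ e ≠ 0 then g ((t * k) % 3) else 0) (s : ℕ → ℕ → ℕ → ℕ → ℕ) (t : ℕ)
    (ht : t = 1 ∨ t = 2) :
    ∑ a ∈ Finset.range 3, ∑ b ∈ Finset.range 3, ∑ e ∈ Finset.range 3,
      (N t a b e (2 * s t a b e) - N t a b e (2 * s t a b e + 1)) =
    ∑ a ∈ Finset.Ico 1 3, ∑ b ∈ Finset.Ico 1 3, ∑ e ∈ Finset.Ico 1 3,
      (g ((t * (2 * s t a b e)) % 3) - g ((t * (2 * s t a b e + 1)) % 3)) := by
  have hr : Finset.Ico 1 3 ⊆ Finset.range 3 := by decide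
  have hr' : ∀ a ∈ Finset.range 3, a ∉ Finset.Ico 1 3 → a = 0 := by decide
  have hr'' : ∀ a ∈ Finset.Ico 1 3, a ≠ 0 := by decide
  symm
  have h0 : ∀ a ∈ Finset.range 3, ∀ b ∈ Finset.range 3, ∀ e ∈ Finset.range 3, (a = 0 ∨ b = 0 ∨ e = 0) →
      N t a b e (2 * s t a b e) - N t a b e (2 * s t a b e + 1) = 0 := by
    intro a ha b hb e he h
    rw [H t a b e _ ht (Finset.mem_range.1 ha) (Finset.mem_range.1 hb) (Finset.mem_range.1 he),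
      H t a b e _ ht (Finset.mem_range.1 ha) (Finset.mem_range.1 hb) (Finset.mem_range.1 he), if_neg (by tauto),
      if_neg (by tauto), sub_zero]
  rw [← Finset.sum_subset hr (fun a ha ha' => Finset.sum_eq_zero fun b hb => Finset.sum_eq_zero fun e he =>
    h0 a ha b hb e he (Or.inl (hr' a ha ha')))]
  refine Finset.sum_congr rfl fun a ha => ?_
  rw [← Finset.sum_subset hr (fun b hb hb' => Finset.sum_eq_zero fun e he =>
    h0 a (hr ha) b hb e he (Or.inr (Or.inl (hr' b hb hb'))))]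
  refine Finset.sum_congr rfl fun b hb => ?_
  rw [← Finset.sum_subset hr (fun e he he' => h0 a (hr ha) b (hr hb) e he (Or.inr (Or.inr (hr' e he he'))))]
  refine Finset.sum_congr rfl fun e he => ?_
  rw [H t a b e _ ht (Finset.mem_range.1 (hr ha)) (Finset.mem_range.1 (hr hb)) (Finset.mem_range.1 (hr he)),
    H t a b e _ ht (Finset.mem_range.1 (hr ha)) (Finset.mem_range.1 (hr hb)) (Finset.mem_range.1 (hr he)),
    if_pos ⟨hr'' a ha, hr'' b hb, hr'' e he⟩, if_pos ⟨hr'' a ha, hr'' b hb, hr'' e he⟩]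

theorem act_comp {ρ : ↥P18 →* Module.End K V} {p q : ↥P18} {a b : ℕ} {v : V} (hp : ρ p v = w ^ a • v)
    (hq : ρ q v = w ^ b • v) : ρ (p * q) v = w ^ (a + b) • v := by
  rw [act_mul, hq, map_smul, hp, smul_smul, ← pow_add, add_comm]

theorem arith0 {g0 g1 g2 : ℤ} (h0 : 0 ≤ g0) (h1 : 0 ≤ g1) (hg : g0 = g2) (ht : g0 + g1 + g2 = 2) :
    (g0 = 1 ∧ g1 = 0 ∧ g2 = 1) ∨ (g0 = 0 ∧ g1 = 2 ∧ g2 = 0) := by omega

theorem zero3 {a b c : ℤ} (ha : 0 ≤ a) (hb : 0 ≤ b) (hc : 0 ≤ c) (h : a + b + c = 0) : a = 0 ∧ b = 0 ∧ c = 0 := by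
  refine ⟨?_, ?_, ?_⟩ <;> linarith

theorem arith1 {u00 u01 u02 u10 u11 u12 u20 u21 u22 : ℤ} {v00 v01 v02 v10 v11 v12 v20 v21 v22 : ℤ}
    (hu : 0 ≤ u00 ∧ 0 ≤ u01 ∧ 0 ≤ u02 ∧ 0 ≤ u10 ∧ 0 ≤ u11 ∧ 0 ≤ u12 ∧ 0 ≤ u20 ∧ 0 ≤ u21 ∧ 0 ≤ u22)
    (hv : 0 ≤ v00 ∧ 0 ≤ v01 ∧ 0 ≤ v02 ∧ 0 ≤ v10 ∧ 0 ≤ v11 ∧ 0 ≤ v12 ∧ 0 ≤ v20 ∧ 0 ≤ v21 ∧ 0 ≤ v22)
    {g0 g1 g2 G0 G1 G2 H0 H1 H2 : ℤ} (hg : g0 = g2) (ht : g0 + g1 + g2 = 2)
    (a0 : G0 = u00 + u12 + u21) (a1 : G1 = u01 + u10 + u22) (a2 : G2 = u02 + u11 + u20)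
    (b0 : H0 = v00 + v12 + v21) (b1 : H1 = v01 + v10 + v22) (b2 : H2 = v02 + v11 + v20)
    (c0 : g0 = u00 + u01 + u02) (c1 : g1 = u10 + u11 + u12) (c2 : g2 = u20 + u21 + u22)
    (d0 : g0 = u00 + u10 + u20) (d1 : g1 = u01 + u11 + u21) (d2 : g2 = u02 + u12 + u22)
    (e0 : g0 = v00 + v01 + v02) (e1 : g1 = v10 + v11 + v12) (e2 : g2 = v20 + v21 + v22)
    (f0 : g0 = v00 + v10 + v20) (f1 : g2 = v01 + v11 + v21) (f2 : g1 = v02 + v12 + v22)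
    (h1 : G0 - G2 + (H0 - H1) = 0) (h2 : G2 - G1 + (H0 - H2) = - (g1 - g0)) : False := by
  obtain ⟨x1, x2, x3, x4, x5, x6, x7, x8, x9⟩ := hu
  obtain ⟨y1, y2, y3, y4, y5, y6, y7, y8, y9⟩ := hv
  have hcases : (g0 = 1 ∧ g1 = 0 ∧ g2 = 1) ∨ (g0 = 0 ∧ g1 = 2 ∧ g2 = 0) :=
    arith0 (by linarith) (by linarith) hg ht
  rcases hcases with ⟨z0, z1, z2⟩ | ⟨z0, z1, z2⟩
  · obtain ⟨w1, w2, w3⟩ := zero3 x4 x5 x6 (c1.symm.trans z1)
    obtain ⟨w4, -, w5⟩ := zero3 x2 x5 x8 (d1.symm.trans z1)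
    obtain ⟨t1, t2, t3⟩ := zero3 y4 y5 y6 (e1.symm.trans z1)
    obtain ⟨t4, -, t5⟩ := zero3 y3 y6 y9 (f2.symm.trans z1)
    have q1 : 2 * u00 = 1 := by linarith
    clear * - q1
    omega
  · obtain ⟨w1, w2, w3⟩ := zero3 x1 x2 x3 (c0.symm.trans z0)
    obtain ⟨w5, w8, w7⟩ := zero3 x7 x8 x9 (c2.symm.trans z2)
    obtain ⟨-, w4, -⟩ := zero3 x1 x4 x7 (d0.symm.trans z0)
    obtain ⟨-, w6, -⟩ := zero3 x3 x6 x9 (d2.symm.trans z2)
    obtain ⟨t1, t2, t3⟩ := zero3 y1 y2 y3 (e0.symm.trans z0)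
    obtain ⟨t5, t7, t8⟩ := zero3 y7 y8 y9 (e2.symm.trans z2)
    obtain ⟨-, t4, -⟩ := zero3 y1 y4 y7 (f0.symm.trans z0)
    obtain ⟨-, t6, -⟩ := zero3 y2 y5 y8 (f1.symm.trans z2)
    linarith

section Main

variable [FiniteDimensional K V]

/-- **Part T3b of S2654.** -/
theorem false_of_wsp (hw : IsPrimitiveRoot w 3) (ρ : ↥P18 →* Module.End K V) (hfus : Fus ρ)
    (h345 : ∀ lam, 3 ≤ nz lam → nz lam ≤ 5 → wsp w ρ lam = ⊥)
    (h6 : ∀ lam, nz lam = 6 → Module.finrank K (wsp w ρ lam) = 2) : False := by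
  -- the vanishing of the multiplicities
  have hz : ∀ (γ : ↥P18) (m : Fin 6 → ℕ) (z : K), 3 ≤ nz (fun i => (m i : ZMod 3)) →
      nz (fun i => (m i : ZMod 3)) ≤ 5 → NN w ρ γ m z = 0 := by
    intro γ m z h3 h5
    rw [NN, WN_eq_wsp hw, h345 _ h3 h5, bot_inf_eq, finrank_bot]
  set g : ℕ → ℤ := fun k => (NN w ρ cP ![1, 1, 1, 1, 1, 1] (w ^ k) : ℤ) with hg
  have hsmall : ∀ t a b e : Fin 3, t ≠ 0 → ¬ (a ≠ 0 ∧ b ≠ 0 ∧ e ≠ 0) →
      3 ≤ nz (fun i => ((![(t : ℕ), t, t, a, b, e] i : ℕ) : ZMod 3)) ∧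
        nz (fun i => ((![(t : ℕ), t, t, a, b, e] i : ℕ) : ZMod 3)) ≤ 5 := by decide +kernel
  have H : ∀ t a b e k, (t = 1 ∨ t = 2) → a < 3 → b < 3 → e < 3 →
      (NN w ρ cP ![t, t, t, a, b, e] (w ^ k) : ℤ) = if a ≠ 0 ∧ b ≠ 0 ∧ e ≠ 0 then g ((t * k) % 3) else 0 := by
    intro t a b e k ht ha hb he
    split_ifs with hc
    · have ha' : a = 1 ∨ a = 2 := by omega
      have hb' : b = 1 ∨ b = 2 := by omega
      have he' : e = 1 ∨ e = 2 := by omega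
      rw [hg]
      rcases ht with rfl | rfl
      · show (NN w ρ cP _ _ : ℤ) = (NN w ρ cP _ _ : ℤ)
        rw [f_one hw hfus ha' hb' he', Nat.cast_inj]
        exact NN_congr hw _ _ _ (by omega)
      · show (NN w ρ cP _ _ : ℤ) = (NN w ρ cP _ _ : ℤ)
        rw [← f_two hw hfus, f_one hw hfus ha' hb' he', Nat.cast_inj]
        exact NN_congr hw _ _ _ (by omega)
    · have h1 := hsmall ⟨t, by omega⟩ ⟨a, ha⟩ ⟨b, hb⟩ ⟨e, he⟩ (by
        intro h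
        have := Fin.val_eq_of_eq h
        simp at this
        omega) (by
        rintro ⟨h1, h2, h3⟩
        refine hc ⟨fun h => h1 (Fin.ext h), fun h => h2 (Fin.ext h), fun h => h3 (Fin.ext h)⟩)
      rw [hz cP _ _ h1.1 h1.2]
      rfl
  -- total dimension
  have htot : g 0 + g 1 + g 2 = 2 := by
    have h1 : Module.finrank K (WN w ρ ![1, 1, 1, 1, 1, 1]) = 2 := by
      rw [WN_eq_wsp hw]
      exact h6 _ (by decide +kernel)
    rw [split3 hw (X := ρ cP) (w_inv_c (by decide)) (w_c3 hw (by decide)), Finset.sum_range_succ,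
      Finset.sum_range_succ, Finset.sum_range_one] at h1
    have : (NN w ρ cP ![1, 1, 1, 1, 1, 1] (w ^ 0) : ℤ) + NN w ρ cP ![1, 1, 1, 1, 1, 1] (w ^ 1) +
        NN w ρ cP ![1, 1, 1, 1, 1, 1] (w ^ 2) = 2 := by exact_mod_cast h1
    exact this
  -- the sums for one block
  set B : (ℕ → ℕ → ℕ → ℕ → ℕ) → ℕ → ℤ := fun s t =>
    ∑ a ∈ Finset.Ico 1 3, ∑ b ∈ Finset.Ico 1 3, ∑ e ∈ Finset.Ico 1 3,
      (g ((t * (2 * s t a b e)) % 3) - g ((t * (2 * s t a b e + 1)) % 3)) with hB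
  have hone : ∀ (e0 : ↥P18) (s : ℕ → ℕ → ℕ → ℕ → ℕ), (∀ i, Commute e0 (xP i)) →
      (∀ t a b e, ∀ v ∈ WN w ρ ![t, t, t, a, b, e], ρ e0 v = w ^ s t a b e • v) →
      dd w ⊤ (ρ (cP * e0)) = (∑ a ∈ Finset.range 3, ∑ b ∈ Finset.range 3, ∑ e ∈ Finset.range 3,
        ((NN w ρ cP ![0, 0, 0, a, b, e] (w ^ (2 * s 0 a b e)) : ℤ) -
        NN w ρ cP ![0, 0, 0, a, b, e] (w ^ (2 * s 0 a b e + 1)))) + B s 1 + B s 2 := by
    intro e0 s he hs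
    rw [one_eval hw he hs, Finset.sum_range_succ, Finset.sum_range_succ, Finset.sum_range_one]
    have e1 := eval_block (g := g) (N := fun t a b e k => (NN w ρ cP ![t, t, t, a, b, e] (w ^ k) : ℤ)) H s 1
      (Or.inl rfl)
    have e2 := eval_block (g := g) (N := fun t a b e k => (NN w ρ cP ![t, t, t, a, b, e] (w ^ k) : ℤ)) H s 2
      (Or.inr rfl)
    simp only [hB]
    rw [← e1, ← e2]
  have hI : Finset.Ico 1 3 = ({1, 2} : Finset ℕ) := by decide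
  -- the elements
  have cxx : ∀ i j : Fin 6, ∀ l, Commute (xP i * xP j) (xP l) := fun i j l =>
    Commute.mul_left (xP_commute i l) (xP_commute j l)
  have cxxx : ∀ i j k : Fin 6, ∀ l, Commute (xP i * xP j * xP k) (xP l) := fun i j k l =>
    Commute.mul_left (cxx i j l) (xP_commute k l)
  have act : ∀ {m : Fin 6 → ℕ} {v : V}, v ∈ WN w ρ m → ∀ i, ρ (xP i) v = w ^ m i • v := fun h i => h i
  have k1 := hone 1 (fun _ _ _ _ => 0) (fun i => Commute.one_left _) (by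
    intro t a b e v _
    rw [map_one, pow_zero, one_smul]; rfl)
  have k2 := hone (xP 0) (fun t _ _ _ => t) (fun i => xP_commute 0 i) (by
    intro t a b e v hv
    exact act hv 0)
  have k3 := hone (xP 0 * xP 0 * (xP 3 * xP 4 * xP 5)) (fun t a b e => (t + t) + (a + b + e))
    (fun i => Commute.mul_left (cxx 0 0 i) (cxxx 3 4 5 i)) (by
    intro t a b e v hv
    exact act_comp (act_comp (act hv 0) (act hv 0)) (act_comp (act_comp (act hv 3) (act hv 4)) (act hv 5)))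
  have k4 := hone (xP 3 * xP 4 * xP 5) (fun t a b e => a + b + e)
    (fun i => cxxx 3 4 5 i) (by
    intro t a b e v hv
    exact act_comp (act_comp (act hv 3) (act hv 4)) (act hv 5))
  have ha1 := a_one (w := w) hfus
  rw [k1, k2] at ha1
  simp only [hB, hI] at ha1
  norm_num [Finset.sum_pair] at ha1
  have hg02 : g 0 = g 2 := by linarith
  have ha3 := a_three (w := w) hfus
  have ha4 := a_four (w := w) hfus
  rw [k3] at ha3
  rw [k4] at ha4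
  have hdiff : B (fun t a b e => (t + t) + (a + b + e)) 1 + B (fun t a b e => (t + t) + (a + b + e)) 2 -
      B (fun t a b e => a + b + e) 1 - B (fun t a b e => a + b + e) 2 = - 3 * (g 1 - g 0) := by
    simp only [hB, hI]
    norm_num [Finset.sum_pair]
    linarith
  have hdiff2 : dd w ⊤ (ρ (cP * dP * (xP 0 * xP 0 * (xP 3 * xP 3)))) - dd w ⊤ (ρ (cP * dP * (xP 3 * xP 3))) =
      - 3 * (g 1 - g 0) := by
    rw [ha3, ha4, ← hdiff]
    simp only [zero_add]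
    ring
  -- two blocks
  set G1 : ℕ → ℤ := fun k => (NN w ρ (cP * dP) ![1, 1, 1, 1, 1, 1] (w ^ k) : ℤ) with hG1
  set G2 : ℕ → ℤ := fun k => (NN w ρ (cP * dP) ![1, 1, 1, 2, 2, 2] (w ^ k) : ℤ) with hG2
  have htwo : ∀ (e0 : ↥P18) (s : ℕ → ℕ → ℕ), (∀ i, Commute e0 (xP i)) →
      (∀ t a, ∀ v ∈ WN w ρ ![t, t, t, a, a, a], ρ e0 v = w ^ s t a • v) →
      dd w ⊤ (ρ (cP * dP * e0)) =
        ((NN w ρ (cP * dP) ![0, 0, 0, 0, 0, 0] (w ^ (2 * s 0 0)) : ℤ) -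
          NN w ρ (cP * dP) ![0, 0, 0, 0, 0, 0] (w ^ (2 * s 0 0 + 1))) +
        (G1 ((2 * s 1 1) % 3) - G1 ((2 * s 1 1 + 1) % 3)) +
        (G2 ((2 * s 1 2) % 3) - G2 ((2 * s 1 2 + 1) % 3)) +
        (G2 ((2 * (2 * s 2 1)) % 3) - G2 ((2 * (2 * s 2 1 + 1)) % 3)) +
        (G1 ((2 * (2 * s 2 2)) % 3) - G1 ((2 * (2 * s 2 2 + 1)) % 3)) := by
    intro e0 s he hs
    rw [two_eval hw he hs]
    simp only [Finset.sum_range_succ, Finset.sum_range_zero, zero_add]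
    have z01 : ∀ z, NN w ρ (cP * dP) ![0, 0, 0, 1, 1, 1] z = 0 := fun z => hz _ _ z (by decide) (by decide)
    have z02 : ∀ z, NN w ρ (cP * dP) ![0, 0, 0, 2, 2, 2] z = 0 := fun z => hz _ _ z (by decide) (by decide)
    have z10 : ∀ z, NN w ρ (cP * dP) ![1, 1, 1, 0, 0, 0] z = 0 := fun z => hz _ _ z (by decide) (by decide)
    have z20 : ∀ z, NN w ρ (cP * dP) ![2, 2, 2, 0, 0, 0] z = 0 := fun z => hz _ _ z (by decide) (by decide)
    have y1 : ∀ k, (NN w ρ (cP * dP) ![1, 1, 1, 1, 1, 1] (w ^ k) : ℤ) = G1 (k % 3) := fun k =>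
      congrArg _ (NN_congr hw _ _ _ (by omega))
    have y2 : ∀ k, (NN w ρ (cP * dP) ![1, 1, 1, 2, 2, 2] (w ^ k) : ℤ) = G2 (k % 3) := fun k =>
      congrArg _ (NN_congr hw _ _ _ (by omega))
    rw [z01, z01, z02, z02, z10, z10, z20, z20, ← f_seven hw hfus, ← f_seven hw hfus, ← f_seven' hw hfus,
      ← f_seven' hw hfus, y1, y1, y1, y1, y2, y2, y2, y2]
    push_cast
    ring
  have l1 := htwo 1 (fun _ _ => 0) (fun i => Commute.one_left _) (by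
    intro t a v _
    rw [map_one, pow_zero, one_smul]; rfl)
  have l2 := htwo (xP 3) (fun _ a => a) (fun i => xP_commute 3 i) (fun t a v hv => act hv 3)
  have l3 := htwo (xP 0 * xP 0 * (xP 3 * xP 3)) (fun t a => (t + t) + (a + a))
    (fun i => Commute.mul_left (cxx 0 0 i) (cxx 3 3 i)) (fun t a v hv =>
      act_comp (act_comp (act hv 0) (act hv 0)) (act_comp (act hv 3) (act hv 3)))
  have l4 := htwo (xP 3 * xP 3) (fun _ a => a + a) (fun i => cxx 3 3 i) (fun t a v hv =>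
      act_comp (act hv 3) (act hv 3))
  have ha2 := a_two (w := w) hfus
  rw [l1, l2] at ha2
  rw [l3, l4] at hdiff2
  norm_num at ha2 hdiff2
  -- joint multiplicities
  have u : ∀ k, G1 k = ∑ i ∈ Finset.range 3, (JJ w ρ ![1, 1, 1, 1, 1, 1] i ((k + 2 * i) % 3) : ℤ) := by
    intro k
    show (NN w ρ (cP * dP) _ _ : ℤ) = _
    rw [sum_cd hw (by decide) (by decide), Nat.cast_sum]
    exact Finset.sum_congr rfl fun i _ => congrArg _ (JJ_congr hw _ _ _ (by omega))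
  have v : ∀ k, G2 k = ∑ i ∈ Finset.range 3, (JJ w ρ ![1, 1, 1, 2, 2, 2] i ((k + 2 * i) % 3) : ℤ) := by
    intro k
    show (NN w ρ (cP * dP) _ _ : ℤ) = _
    rw [sum_cd hw (by decide) (by decide), Nat.cast_sum]
    exact Finset.sum_congr rfl fun i _ => congrArg _ (JJ_congr hw _ _ _ (by omega))
  have uc : ∀ i, g i = ∑ j ∈ Finset.range 3, (JJ w ρ ![1, 1, 1, 1, 1, 1] i j : ℤ) := by
    intro i
    show (NN w ρ cP _ _ : ℤ) = _
    rw [sum_c hw (by decide) (by decide), Nat.cast_sum]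
  have ud : ∀ j, g j = ∑ i ∈ Finset.range 3, (JJ w ρ ![1, 1, 1, 1, 1, 1] i j : ℤ) := by
    intro i
    show (NN w ρ cP _ _ : ℤ) = _
    rw [f_six hw hfus, sum_d hw (by decide) (by decide), Nat.cast_sum]
  have vc : ∀ i, g i = ∑ j ∈ Finset.range 3, (JJ w ρ ![1, 1, 1, 2, 2, 2] i j : ℤ) := by
    intro i
    show (NN w ρ cP _ _ : ℤ) = _
    rw [f_one hw hfus (Or.inr rfl) (Or.inr rfl) (Or.inr rfl), sum_c hw (by decide) (by decide), Nat.cast_sum]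
  have vd : ∀ j, g ((2 * j) % 3) = ∑ i ∈ Finset.range 3, (JJ w ρ ![1, 1, 1, 2, 2, 2] i j : ℤ) := by
    intro j
    show (NN w ρ cP _ _ : ℤ) = _
    rw [NN_congr hw ρ cP _ (show (2 * j) % 3 % 3 = (2 * j) % 3 by omega), f_six hw hfus, f_six' hw hfus,
      sum_d hw (by decide) (by decide), Nat.cast_sum]
  have u0 := u 0
  have u1 := u 1
  have u2 := u 2
  have v0 := v 0
  have v1 := v 1
  have v2 := v 2
  have uc0 := uc 0
  have uc1 := uc 1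
  have uc2 := uc 2
  have ud0 := ud 0
  have ud1 := ud 1
  have ud2 := ud 2
  have vc0 := vc 0
  have vc1 := vc 1
  have vc2 := vc 2
  have vd0 := vd 0
  have vd1 := vd 1
  have vd2 := vd 2
  clear_value G1 G2 g
  simp only [Finset.sum_range_succ, Finset.sum_range_zero, zero_add] at u0 u1 u2 v0 v1 v2 uc0 uc1 uc2 ud0 ud1 ud2 vc0 vc1 vc2 vd0 vd1 vd2
  norm_num at u0 u1 u2 v0 v1 v2 vd0 vd1 vd2
  refine arith1 (u00 := JJ w ρ ![1, 1, 1, 1, 1, 1] 0 0) (u01 := JJ w ρ ![1, 1, 1, 1, 1, 1] 0 1)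
    (u02 := JJ w ρ ![1, 1, 1, 1, 1, 1] 0 2) (u10 := JJ w ρ ![1, 1, 1, 1, 1, 1] 1 0)
    (u11 := JJ w ρ ![1, 1, 1, 1, 1, 1] 1 1) (u12 := JJ w ρ ![1, 1, 1, 1, 1, 1] 1 2)
    (u20 := JJ w ρ ![1, 1, 1, 1, 1, 1] 2 0) (u21 := JJ w ρ ![1, 1, 1, 1, 1, 1] 2 1)
    (u22 := JJ w ρ ![1, 1, 1, 1, 1, 1] 2 2)
    (v00 := JJ w ρ ![1, 1, 1, 2, 2, 2] 0 0) (v01 := JJ w ρ ![1, 1, 1, 2, 2, 2] 0 1)
    (v02 := JJ w ρ ![1, 1, 1, 2, 2, 2] 0 2) (v10 := JJ w ρ ![1, 1, 1, 2, 2, 2] 1 0)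
    (v11 := JJ w ρ ![1, 1, 1, 2, 2, 2] 1 1) (v12 := JJ w ρ ![1, 1, 1, 2, 2, 2] 1 2)
    (v20 := JJ w ρ ![1, 1, 1, 2, 2, 2] 2 0) (v21 := JJ w ρ ![1, 1, 1, 2, 2, 2] 2 1)
    (v22 := JJ w ρ ![1, 1, 1, 2, 2, 2] 2 2)
    (by refine ⟨?_, ?_, ?_, ?_, ?_, ?_, ?_, ?_, ?_⟩ <;> exact Int.natCast_nonneg _)
    (by refine ⟨?_, ?_, ?_, ?_, ?_, ?_, ?_, ?_, ?_⟩ <;> exact Int.natCast_nonneg _)
    hg02 htot u0 u1 u2 v0 v1 v2 uc0 uc1 uc2 ud0 ud1 ud2 vc0 vc1 vc2 vd0 vd1 vd2 ?_ ?_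
  · linarith
  · linarith

end Main

end Cfsg.Agent.H224.E8
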