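import Cfsg.Agent.H72.AdjPSL

/-!
# Elements of order `16` or `8 r` in `PSL_n(u)`, `PSU_n(u)`, `u` odd, `n ≥ 3` (helper224)

* `exists_psl` : `PSL_n(u)`, `n ≥ 3`, except `(n, u) = (3, 3), (4, 3)`;
* `exists_psu` : `PSU_n(u)`, `n ≥ 3`, except `(n, u) = (3, 3), (3, 5), (4, 3)`.
-/

set_option autoImplicit false
set_option linter.unusedSectionVars false

namespace Cfsg.Agent.H224.Odd8Lin

open Matrix Cfsg.Agent.H72 Cfsg.Agent.H186 Cfsg.Agent.ClassicalGeometry.GUBasic Cfsg.Agent.H103.UniBlock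

theorem eight_dvd {u : ℕ} (hu : Odd u) : 8 ∣ u ^ 2 - 1 := by
  obtain ⟨k, rfl⟩ := hu
  have h1 : (2 * k + 1) ^ 2 - 1 = 4 * (k * (k + 1)) := by
    have : (2 * k + 1) ^ 2 = 4 * (k * (k + 1)) + 1 := by ring
    omega
  rw [h1]
  obtain ⟨c, hc⟩ := Nat.even_mul_succ_self k
  rw [hc]
  exact ⟨c, by ring⟩

theorem exists_div {u g N : ℕ} (hu : Odd u) (hg : g = 1 ∨ g = 3) (hN : N * g = u ^ 2 - 1)
    (h : 5 < u ∨ (3 < u ∧ g = 1)) : ∃ d, d ∣ N ∧ (d = 16 ∨ ∃ r, r.Prime ∧ r ≠ 2 ∧ d = 8 * r) := by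
  have h8 : 8 ∣ N := by
    have h1 := eight_dvd hu
    rw [← hN] at h1
    refine Nat.Coprime.dvd_of_dvd_mul_right ?_ h1
    rcases hg with rfl | rfl <;> decide
  obtain ⟨k, rfl⟩ := h8
  have hk : k ≠ 1 := by
    rintro rfl
    rcases h with h | ⟨h, rfl⟩
    · have : 7 ≤ u := by
        obtain ⟨j, rfl⟩ := hu
        omega
      have h3 : 7 ^ 2 ≤ u ^ 2 := Nat.pow_le_pow_left this 2
      omega
    · have h3 : 4 ^ 2 ≤ u ^ 2 := Nat.pow_le_pow_left h 2
      omega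
  obtain ⟨r, hr, c, rfl⟩ := Nat.exists_prime_and_dvd hk
  by_cases h2 : r = 2
  · subst h2
    exact ⟨16, ⟨c, by ring⟩, Or.inl rfl⟩
  · exact ⟨8 * r, ⟨c, by ring⟩, Or.inr ⟨r, hr, h2, rfl⟩⟩

section submatrix

variable {F : Type*} [Field F] {ι κ : Type*} [Fintype ι] [DecidableEq ι] [Fintype κ] [DecidableEq κ]

theorem submatrix_pow (e : κ ≃ ι) (B : Matrix ι ι F) (k : ℕ) : (B.submatrix e e) ^ k = (B ^ k).submatrix e e := by
  induction k with
  | zero => rw [pow_zero, pow_zero, Matrix.submatrix_one_equiv]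
  | succ k ih => rw [pow_succ, ih, Matrix.submatrix_mul_equiv, ← pow_succ]

theorem of_submatrix (e : κ ≃ ι) {B : Matrix ι ι F} {c : F} (h : B.submatrix e e = c • 1) : B = c • 1 := by
  have h4 := congrArg (fun M : Matrix κ κ F => M.submatrix e.symm e.symm) h
  simp only [Matrix.submatrix_submatrix, Equiv.self_comp_symm, Matrix.submatrix_id_id] at h4
  rw [h4]
  change c • ((1 : Matrix κ κ F).submatrix e.symm e.symm) = c • 1
  rw [Matrix.submatrix_one_equiv]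

end submatrix

section linear

variable (F : Type*) [Field F] [Fintype F]

/-- `diag (A, det A ^ (-1))`, `A` a Singer cycle of `GL_2` -/
theorem exists_three : ∃ M : Matrix (Fin 3) (Fin 3) F, M.det = 1 ∧ M ^ (Fintype.card F ^ 2 - 1) = 1 ∧
    ∀ (k : ℕ) (c : F), M ^ k = c • 1 → c ^ 3 = 1 ∧ c ^ (Fintype.card F - 1) = 1 ∧
      (∀ j : ℕ, c ^ j = 1 → Fintype.card F ^ 2 - 1 ∣ k * j) := by
  classical
  obtain ⟨A, hA⟩ := AdjPSU.exists_singer F (m := 2) (by norm_num)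
  let B : Matrix (Fin 2 ⊕ Fin 1) (Fin 2 ⊕ Fin 1) F :=
    fromBlocks (A : Matrix (Fin 2) (Fin 2) F) 0 0 (((A : Matrix (Fin 2) (Fin 2) F).det)⁻¹ • (1 : Matrix (Fin 1) (Fin 1) F))
  let e : Fin 3 ≃ Fin 2 ⊕ Fin 1 := (finSumFinEquiv (m := 2) (n := 1)).symm
  have hdet0 : (A : Matrix (Fin 2) (Fin 2) F).det ≠ 0 := ((Matrix.isUnit_iff_isUnit_det _).1 A.isUnit).ne_zero
  have hpow : ∀ k : ℕ, B ^ k = fromBlocks ((A ^ k : (Matrix (Fin 2) (Fin 2) F)ˣ) : Matrix (Fin 2) (Fin 2) F) 0 0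
      ((((A : Matrix (Fin 2) (Fin 2) F).det)⁻¹) ^ k • (1 : Matrix (Fin 1) (Fin 1) F)) := by
    intro k
    rw [AdjPSU.fromBlocks_pow, smul_pow, one_pow, Units.val_pow_eq_pow_val]
  refine ⟨B.submatrix e e, ?_, ?_, ?_⟩
  · rw [Matrix.det_submatrix_equiv_self, Matrix.det_fromBlocks_zero₂₁, Matrix.det_smul, Matrix.det_one, Fintype.card_fin,
      pow_one, mul_one, mul_inv_cancel₀ hdet0]
  · rw [submatrix_pow, hpow, ← hA, pow_orderOf_eq_one]
    have h1 : (A : Matrix (Fin 2) (Fin 2) F).det ^ orderOf A = 1 := by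
      rw [← Matrix.det_pow, ← Units.val_pow_eq_pow_val, pow_orderOf_eq_one, Units.val_one, Matrix.det_one]
    rw [inv_pow, h1, inv_one, one_smul, Units.val_one, fromBlocks_one, Matrix.submatrix_one_equiv]
  · intro k c hk
    rw [submatrix_pow, hpow] at hk
    have h1 := of_submatrix e hk
    obtain ⟨h2, h3⟩ := AdjPSU.fromBlocks_eq_smul h1
    have h4 : (((A : Matrix (Fin 2) (Fin 2) F).det)⁻¹) ^ k = c := by
      have := congrFun (congrFun h3 0) 0
      simpa using this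
    have h5 : ((A : Matrix (Fin 2) (Fin 2) F).det) ^ k = c ^ 2 := by
      rw [← Matrix.det_pow, ← Units.val_pow_eq_pow_val, h2, Matrix.det_smul, Matrix.det_one, Fintype.card_fin, mul_one]
    have h6 : c ^ 3 = 1 := by
      rw [inv_pow, h5] at h4
      have h7 : c ≠ 0 := by
        rintro rfl
        rw [zero_pow two_ne_zero] at h5
        exact pow_ne_zero k hdet0 h5
      calc c ^ 3 = c ^ 2 * c := by ring
        _ = c ^ 2 * (c ^ 2)⁻¹ := by rw [h4]
        _ = 1 := mul_inv_cancel₀ (pow_ne_zero 2 h7)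
    have h7 : c ≠ 0 := by
      rintro rfl
      norm_num at h6
    refine ⟨h6, ?_, ?_⟩
    · exact FiniteField.pow_card_sub_one_eq_one c h7
    · intro j hj
      rw [← hA]
      apply orderOf_dvd_of_pow_eq_one
      apply Units.ext
      rw [pow_mul, Units.val_pow_eq_pow_val, h2, smul_pow, hj, one_pow, one_smul, Units.val_one]

theorem hasBlock_three : AdjPSL.HasBlock F 3 (Fintype.card F ^ 2 - 1) := by
  obtain ⟨M, h1, h2, h3⟩ := exists_three F
  refine ⟨M, h1, h2, fun k hk => ?_⟩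
  have h4 := (h3 k 1 (by rw [hk, one_smul])).2.2 1 (one_pow 1)
  rwa [mul_one] at h4

theorem hasBlock_dvd {F : Type*} [Field F] {a d e : ℕ} (h : AdjPSL.HasBlock F a d) (he : e ∣ d) (hd : d ≠ 0) :
    AdjPSL.HasBlock F a e := by
  obtain ⟨A, hdet, h1, h2⟩ := h
  obtain ⟨c, rfl⟩ := he
  have hc : 0 < c := Nat.pos_of_ne_zero fun h => hd (by rw [h, mul_zero])
  refine ⟨A ^ c, by rw [Matrix.det_pow, hdet, one_pow], by rw [← pow_mul, mul_comm, h1], fun k hk => ?_⟩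
  rw [← pow_mul] at hk
  have h3 := h2 _ hk
  rw [mul_comm e c] at h3
  exact Nat.dvd_of_mul_dvd_mul_left hc h3

/-- the characteristic -/
theorem exists_char {F : Type*} [Field F] [Fintype F] (h : Odd (Fintype.card F)) :
    ∃ p : ℕ, p.Prime ∧ p ≠ 2 ∧ CharP F p := by
  obtain ⟨p, hp⟩ := CharP.exists F
  obtain ⟨n, hpp, hn⟩ := FiniteField.card F p
  refine ⟨p, hpp, ?_, hp⟩
  rintro rfl
  rw [hn] at h
  exact (Nat.not_odd_iff_even.2 (Even.pow_of_ne_zero even_two n.pos.ne')) h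

theorem coprime_eight {p : ℕ} (hp : p.Prime) (h2 : p ≠ 2) : Nat.Coprime 8 p := by
  have h1 : Nat.Coprime (2 ^ 3) p := Nat.Coprime.pow_left 3 ((Nat.coprime_primes Nat.prime_two hp).2 (Ne.symm h2))
  exact h1

/-- **Elements of order `16` or `8 r` in `PSL_n(u)`.** -/
theorem exists_psl {F : Type*} [Field F] [Fintype F] (hF : Odd (Fintype.card F)) {n : ℕ} (hn : 3 ≤ n)
    (h4 : n ≤ 4 → 3 < Fintype.card F) : ∃ x : Matrix.ProjectiveSpecialLinearGroup (Fin n) F, orderOf x = 16 ∨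
      ∃ r : ℕ, r.Prime ∧ r ≠ 2 ∧ orderOf x = 8 * r := by
  have hu := Fintype.one_lt_card (α := F)
  have hpos : Fintype.card F ^ 2 - 1 ≠ 0 := by
    have h1 : 2 ^ 2 ≤ Fintype.card F ^ 2 := Nat.pow_le_pow_left hu 2
    omega
  rcases Nat.lt_or_ge n 5 with h5 | h5
  · rcases (show n = 4 ∨ n = 3 by omega) with rfl | rfl
    · obtain ⟨d, hd, h6⟩ := exists_div (N := Fintype.card F ^ 2 - 1) hF (Or.inl rfl) (mul_one _)
        (Or.inr ⟨h4 le_rfl, rfl⟩)
      obtain ⟨x, hx⟩ := AdjPSL.exists_order_of_block_lt (n := 4) (hasBlock_three F) (by norm_num) d hd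
      refine ⟨x, ?_⟩
      rcases h6 with h6 | ⟨r, hr, h2, h6⟩
      · exact Or.inl (hx.trans h6)
      · exact Or.inr ⟨r, hr, h2, hx.trans h6⟩
    · obtain ⟨M, h1, h2, h3⟩ := exists_three F
      have hg : Nat.gcd 3 (Fintype.card F - 1) = 1 ∨ Nat.gcd 3 (Fintype.card F - 1) = 3 :=
        (Nat.dvd_prime Nat.prime_three).1 (Nat.gcd_dvd_left _ _)
      obtain ⟨N, hN⟩ : Nat.gcd 3 (Fintype.card F - 1) ∣ Fintype.card F ^ 2 - 1 := by
        refine (Nat.gcd_dvd_right _ _).trans ?_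
        have := Nat.sq_sub_sq (Fintype.card F) 1
        rw [one_pow] at this
        rw [this]
        exact dvd_mul_left _ _
      obtain ⟨d, hd, h6⟩ := exists_div (N := N) hF hg (by rw [hN, mul_comm]) (by
        have h7 := h4 (by norm_num)
        by_cases h8 : 5 < Fintype.card F
        · exact Or.inl h8
        · refine Or.inr ⟨h7, ?_⟩
          obtain ⟨j, hj⟩ := hF
          have h9 : Fintype.card F = 5 := by omega
          rw [h9]
          decide)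
      obtain ⟨x, hx⟩ := AdjPSL.exists_order M h1 (N := N) (fun k c hk => by
        obtain ⟨h7, h8, h9⟩ := h3 k c hk
        have h10 : c ^ Nat.gcd 3 (Fintype.card F - 1) = 1 :=
          orderOf_dvd_iff_pow_eq_one.1 (Nat.dvd_gcd (orderOf_dvd_of_pow_eq_one h7) (orderOf_dvd_of_pow_eq_one h8))
        have h11 := h9 _ h10
        rw [hN, mul_comm] at h11
        exact Nat.dvd_of_mul_dvd_mul_right (Nat.pos_of_ne_zero (by rcases hg with h | h <;> omega)) h11) d hd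
      refine ⟨x, ?_⟩
      rcases h6 with h6 | ⟨r, hr, h2, h6⟩
      · exact Or.inl (hx.trans h6)
      · exact Or.inr ⟨r, hr, h2, hx.trans h6⟩
  · obtain ⟨p, hp, hp2, _⟩ := exists_char hF
    obtain ⟨x, hx⟩ := AdjPSL.exists_order_of_blocks (n := n) (hasBlock_dvd (hasBlock_three F) (eight_dvd hF) hpos)
      (AdjPSL.hasBlock_char p) (by norm_num) (by norm_num) h5 (coprime_eight hp hp2) _ dvd_rfl
    exact ⟨x, Or.inr ⟨p, hp, hp2, hx⟩⟩

end linear

section unitary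

variable {F : Type*} [Field F] [Fintype F] {q : ℕ}

/-- `diag (w, w ^ (-q), w ^ (q - 1))` -/
theorem exists_three_u (hF : Fintype.card F = q ^ 2) : ∃ M : Matrix (Fin 3) (Fin 3) F, Uni q M ∧ M.det = 1 ∧
    M ^ (q ^ 2 - 1) = 1 ∧
    ∀ (k : ℕ) (c : F), M ^ k = c • 1 → c ^ 3 = 1 ∧ c ^ (q + 1) = 1 ∧ (∀ j : ℕ, c ^ j = 1 → q ^ 2 - 1 ∣ k * j) := by
  classical
  have hq := two_le hF
  obtain ⟨w, hw⟩ := IsCyclic.exists_generator (α := Fˣ)
  have hord : orderOf w = q ^ 2 - 1 := by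
    rw [orderOf_eq_card_of_forall_mem_zpowers hw, Nat.card_units, Nat.card_eq_fintype_card, hF]
  have hww : (w : F) ^ (q ^ 2 - 1) = 1 := by
    rw [← hord, ← Units.val_pow_eq_pow_val, pow_orderOf_eq_one, Units.val_one]
  have hw0 : (w : F) ≠ 0 := w.ne_zero
  have hqq : ((w : F) ^ q) ^ q = w := by
    rw [← pow_mul, ← pow_two, ← hF]
    exact FiniteField.pow_card _
  have hlast : (w : F) * ((w : F) ^ q)⁻¹ * ((w : F) ^ q * (w : F)⁻¹) = 1 := by
    have h1 : (w : F) ^ q ≠ 0 := pow_ne_zero q hw0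
    field_simp
  refine ⟨Matrix.diagonal ![(w : F), ((w : F) ^ q)⁻¹, (w : F) ^ q * (w : F)⁻¹], ?_, ?_, ?_, ?_⟩
  · have hx : (!![0, 1, 0; 1, 0, 0; 0, 0, 1] : Matrix (Fin 3) (Fin 3) F) * !![0, 1, 0; 1, 0, 0; 0, 0, 1] = 1 := by
      ext i j
      fin_cases i <;> fin_cases j <;> simp [Matrix.mul_apply, Fin.sum_univ_succ]
    refine ⟨!![0, 1, 0; 1, 0, 0; 0, 0, 1], ⟨⟨_, _, hx, hx⟩, rfl⟩, ?_⟩
    ext i j
    rw [Matrix.mul_diagonal, Matrix.mul_apply, Fin.sum_univ_three]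
    simp only [st_apply]
    have hq0 : q ≠ 0 := by omega
    fin_cases i <;> fin_cases j <;> simp [Matrix.diagonal, hq0, hqq, mul_pow, inv_pow, hw0]
    exact hlast
  · rw [Matrix.det_diagonal, Fin.prod_univ_three]
    exact hlast
  · rw [Matrix.diagonal_pow, ← Matrix.diagonal_one]
    congr 1
    funext i
    have h1 : ((w : F) ^ q) ^ (q ^ 2 - 1) = 1 := by rw [← pow_mul, mul_comm, pow_mul, hww, one_pow]
    fin_cases i
    · simpa using hww
    · simp [inv_pow, h1]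
    · simp [mul_pow, inv_pow, h1, hww]
  · intro k c hk
    rw [Matrix.diagonal_pow] at hk
    have h0 : (w : F) ^ k = c := by
      have := congrFun (congrFun hk 0) 0
      simpa using this
    have h1 : (((w : F) ^ q)⁻¹) ^ k = c := by
      have := congrFun (congrFun hk 1) 1
      simpa using this
    have h2 : ((w : F) ^ q * (w : F)⁻¹) ^ k = c := by
      have := congrFun (congrFun hk 2) 2
      simpa using this
    have hc0 : c ≠ 0 := by rw [← h0]; exact pow_ne_zero k hw0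
    have h3 : ((w : F) ^ q) ^ k = c⁻¹ := by
      rw [← h1, inv_pow, inv_inv]
    have h4 : c ^ q = c⁻¹ := by
      rw [← h3, ← h0, ← pow_mul, ← pow_mul, mul_comm]
    refine ⟨?_, ?_, ?_⟩
    · rw [mul_pow, h3, inv_pow, h0] at h2
      calc c ^ 3 = c ^ 2 * c := by ring
        _ = c ^ 2 * (c⁻¹ * c⁻¹) := by rw [h2]
        _ = 1 := by field_simp
    · rw [pow_succ, h4, inv_mul_cancel₀ hc0]
    · intro j hj
      rw [← hord]
      apply orderOf_dvd_of_pow_eq_one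
      apply Units.ext
      rw [Units.val_pow_eq_pow_val, pow_mul, h0, hj, Units.val_one]

theorem hasBlock_three_u (hF : Fintype.card F = q ^ 2) : AdjPSU.HasBlock F q 3 (q ^ 2 - 1) := by
  obtain ⟨M, h0, h1, h2, h3⟩ := exists_three_u hF
  refine ⟨M, h0, h1, h2, fun k hk => ?_⟩
  have h4 := (h3 k 1 (by rw [hk, one_smul])).2.2 1 (one_pow 1)
  rwa [mul_one] at h4

/-- **Elements of order `16` or `8 r` in `PSU_n(q)`.** -/
theorem exists_psu (hF : Fintype.card F = q ^ 2) (hq : Odd q) {n : ℕ} (hn : 3 ≤ n)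
    (h3' : n = 3 → 5 < q) (h4' : n = 4 → 3 < q) : ∃ x : Cfsg.PSU n F q, orderOf x = 16 ∨
      ∃ r : ℕ, r.Prime ∧ r ≠ 2 ∧ orderOf x = 8 * r := by
  have hq2 := two_le hF
  have hpos : q ^ 2 - 1 ≠ 0 := by
    have h1 : 2 ^ 2 ≤ q ^ 2 := Nat.pow_le_pow_left hq2 2
    omega
  rcases Nat.lt_or_ge n 5 with h5 | h5
  · rcases (show n = 4 ∨ n = 3 by omega) with rfl | rfl
    · obtain ⟨d, hd, h6⟩ := exists_div (N := q ^ 2 - 1) hq (Or.inl rfl) (mul_one _)
        (Or.inr ⟨h4' rfl, rfl⟩)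
      obtain ⟨x, hx⟩ := AdjPSU.exists_order_of_block_lt hF hn (hasBlock_three_u hF) (by norm_num) d hd
      refine ⟨x, ?_⟩
      rcases h6 with h6 | ⟨r, hr, h2, h6⟩
      · exact Or.inl (hx.trans h6)
      · exact Or.inr ⟨r, hr, h2, hx.trans h6⟩
    · obtain ⟨M, h0, h1, h2, h3⟩ := exists_three_u hF
      have hg : Nat.gcd 3 (q + 1) = 1 ∨ Nat.gcd 3 (q + 1) = 3 :=
        (Nat.dvd_prime Nat.prime_three).1 (Nat.gcd_dvd_left _ _)
      obtain ⟨N, hN⟩ : Nat.gcd 3 (q + 1) ∣ q ^ 2 - 1 := by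
        refine (Nat.gcd_dvd_right _ _).trans ?_
        have := Nat.sq_sub_sq q 1
        rw [one_pow] at this
        rw [this]
        exact dvd_mul_right _ _
      obtain ⟨d, hd, h6⟩ := exists_div (N := N) hq hg (by rw [hN, mul_comm]) (Or.inl (h3' rfl))
      obtain ⟨x, hx⟩ := AdjPSU.exists_order_of_index hF hn (Equiv.refl (Fin 3)) h0 h1 (N := N) (fun k c hk => by
        obtain ⟨h7, h8, h9⟩ := h3 k c hk
        have h10 : c ^ Nat.gcd 3 (q + 1) = 1 :=
          orderOf_dvd_iff_pow_eq_one.1 (Nat.dvd_gcd (orderOf_dvd_of_pow_eq_one h7) (orderOf_dvd_of_pow_eq_one h8))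
        have h11 := h9 _ h10
        rw [hN, mul_comm] at h11
        exact Nat.dvd_of_mul_dvd_mul_right (Nat.pos_of_ne_zero (by rcases hg with h | h <;> omega)) h11) d hd
      refine ⟨x, ?_⟩
      rcases h6 with h6 | ⟨r, hr, h2, h6⟩
      · exact Or.inl (hx.trans h6)
      · exact Or.inr ⟨r, hr, h2, hx.trans h6⟩
  · have ho : Odd (Fintype.card F) := by rw [hF]; exact hq.pow
    obtain ⟨p, hp, hp2, _⟩ := exists_char ho
    have : Fact p.Prime := ⟨hp⟩
    obtain ⟨x, hx⟩ := AdjPSU.exists_order_of_blocks hF hn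
      (AdjPSU.HasBlock.dvd hF (hasBlock_three_u hF) (eight_dvd hq) hpos)
      (AdjPSU.hasBlock_char hF p) (by norm_num) (by norm_num) h5 (coprime_eight hp hp2) _ dvd_rfl
    exact ⟨x, Or.inr ⟨p, hp, hp2, hx⟩⟩

end unitary

end Cfsg.Agent.H224.Odd8Lin
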