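import Cfsg.Agent.H224.FiveOdd
import Cfsg.Agent.H224.Odd8Lin
import Cfsg.Agent.H343.ExcFar

/-!
# `C5`: the groups of Lie type in odd characteristic, final form (helper224)
-/

set_option autoImplicit false

namespace Cfsg.Agent.H224.Five

open Cfsg Cfsg.Lie Cfsg.Agent.H343.ExcFar

theorem psl_row : PslRow := fun _ _ _ hF _ hn h4 => Odd8Lin.exists_psl hF hn h4

theorem psu_row : PsuRow := fun _ _ _ _ hF hq _ hn h3 h4 => Odd8Lin.exists_psu hF hq hn h3 h4

theorem odd_nat_card {F : Type*} [Field F] [Fintype F] {p : ℕ} [CharP F p] (hp : p.Prime) (h2 : p ≠ 2) :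
    Odd (Nat.card F) := by
  rw [Nat.card_eq_fintype_card]
  exact odd_card hp h2

theorem not_two_dvd_of {q a : ℕ} {F : Type*} [Field F] [Fintype F] {p : ℕ} [CharP F p] (hp : p.Prime) (h2 : p ≠ 2)
    (ha : a ≠ 0) (hF : Fintype.card F = q ^ a) : ¬ 2 ∣ q := by
  intro h
  have h1 := odd_card (F := F) hp h2
  rw [hF] at h1
  exact (Nat.not_odd_iff_even.2 ((Nat.even_pow).2 ⟨(even_iff_two_dvd).2 h, ha⟩)) h1

theorem exc_row.{u} : ExcRow.{u} := by
  intro p S _ _ hp h2 hS j g hj hg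
  by_contra hno
  push Not at hno
  have hF : ∀ s : ℕ, s.Prime → s ∣ 2 ^ j + 1 → Far S s := fun s hs hd => by
    refine ⟨hs, ?_, (hd.trans (by rw [← hg])).trans (orderOf_dvd_natCard g), fun ⟨x, hx⟩ => hno s hs hd x hx⟩
    rintro rfl
    have h1 : 2 ∣ 2 ^ j := dvd_pow_self 2 (by omega)
    have h2 := (Nat.dvd_add_right h1).1 hd
    exact absurd h2 (by norm_num)
  have hpos : 0 < 2 ^ j + 1 := Nat.succ_pos _
  rcases hS with h | h | h
  · obtain ⟨F, i1, i2, i3, h⟩ := h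
    have hO := odd_nat_card (F := F) hp h2
    rcases h with ⟨-, ⟨e⟩⟩ | ⟨⟨e⟩⟩ | ⟨⟨e⟩⟩ | ⟨⟨e⟩⟩ | ⟨⟨e⟩⟩
    · exact no_mod (Or.inl rfl) fun s hs hd => far_G2 ((hF s hs hd).congr e)
    · exact no_mod (Or.inl rfl) fun s hs hd => far_F4 hO ((hF s hs hd).congr e)
    · exact no_mod (Or.inl rfl) fun s hs hd => far_E6 hO ((hF s hs hd).congr e)
    · obtain ⟨m, hm, hmod⟩ := mod_E7 (g := e g) hpos ((MulEquiv.orderOf_eq e g).trans hg)
        fun s hs hd => (hF s hs hd).congr e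
      exact no_mod hm hmod
    · obtain ⟨m, hm, hmod⟩ := mod_E8 (g := e g) hpos ((MulEquiv.orderOf_eq e g).trans hg)
        fun s hs hd => (hF s hs hd).congr e
      exact no_mod hm hmod
  · obtain ⟨K, i1, i2, i3, q, hq, h⟩ := h
    rcases h with ⟨hK, ⟨e⟩⟩ | ⟨hK, ⟨e⟩⟩
    · exact no_mod (Or.inl rfl) fun s hs hd => far_2E6 hq hK (not_two_dvd_of hp h2 (by norm_num) hK)
        ((hF s hs hd).congr e)
    · exact no_mod (Or.inl rfl) fun s hs hd => far_3D4 hq hK (not_two_dvd_of hp h2 (by norm_num) hK)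
        ((hF s hs hd).congr e)
  · obtain ⟨K, i1, i2, m, hm, hK, ⟨e⟩⟩ := h
    exact no_mod (Or.inl rfl) fun s hs hd => far_2G2 hm hK ((hF s hs hd).congr e)

/-- **The groups of Lie type in odd characteristic.** -/
theorem C5.false_of_odd {ε : ℤ} {m N d : ℕ} {S : Type*} [Group S] [Finite S] (h : C5 ε m N d S)
    (hS : ∃ p : ℕ, p.Prime ∧ p ≠ 2 ∧ IsLieTypeChar p S) : False :=
  h.odd_char psl_row psu_row exc_row hS

end Cfsg.Agent.H224.Five
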