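import Cfsg.Agent.H224.FiveDefs
import Cfsg.Agent.S0243
import Cfsg.Agent.S0280
import Cfsg.Agent.S0292
import Cfsg.Agent.S0293
import Cfsg.Agent.S0294

/-!
# `C5`: elimination of some small groups by their orders (helper224)
-/

set_option autoImplicit false

namespace Cfsg.Agent.H224.Five

/-- `q ^ 4 + q ^ 3 + q ^ 2 + q + 1` or `q ^ 4 - q ^ 3 + q ^ 2 - q + 1`, `q = 2 ^ m` -/
def Vn (b : Bool) (m : ℕ) : ℕ :=
  if b then (2 ^ m) ^ 4 + (2 ^ m) ^ 3 + (2 ^ m) ^ 2 + 2 ^ m + 1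
  else (2 ^ m) ^ 3 * (2 ^ m - 1) + 2 ^ m * (2 ^ m - 1) + 1

/-- the common part of `N` -/
def N0 (b : Bool) (m : ℕ) : ℕ := Vn b m / Nat.gcd (Vn b m) 5

theorem Vn_cast (b : Bool) (m : ℕ) : (Vn b m : ℤ) = V (if b then 1 else -1) m := by
  cases b
  · have h1 : 1 ≤ 2 ^ m := Nat.one_le_two_pow
    simp only [Vn, V, Bool.false_eq_true, if_false]
    push_cast [h1]
    ring
  · simp only [Vn, V, if_true]
    push_cast
    ring

namespace C5

variable {ε : ℤ} {m N d : ℕ} {S : Type*} [Group S]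

theorem N0_dvd (h : C5 ε m N d S) : ∃ b : Bool, (b = false → 2 ≤ m) ∧ N0 b m ∣ N ∧ V ε m = Vn b m := by
  obtain ⟨b, hb, hb2⟩ : ∃ b : Bool, (b = false → 2 ≤ m) ∧ V ε m = Vn b m := by
    rcases h.eps with h1 | h1
    · exact ⟨true, fun h => absurd h (by decide), by rw [Vn_cast, h1]; rfl⟩
    · exact ⟨false, fun _ => h.two_le h1, by rw [Vn_cast, h1]; rfl⟩
  refine ⟨b, hb, ?_, hb2⟩
  have h1 := h.hN
  rw [hb2] at h1
  have h2 : N * d = Vn b m := by exact_mod_cast h1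
  rw [N0]
  rcases h.hd with h3 | h3
  · rw [h3, mul_one] at h2
    rw [h2]
    exact Nat.div_dvd_of_dvd (Nat.gcd_dvd_left _ _)
  · rw [h3] at h2
    rw [← h2, Nat.gcd_mul_left_left, Nat.mul_div_cancel _ (by norm_num)]

/-- Elimination by the order alone. -/
theorem elim_card (h : C5 ε m N d S) {c : ℕ} (B : ℕ) (hc : Nat.card S = c)
    (hpos : 0 < c) (hB : 20 * c < 3 * 2 ^ (6 * B))
    (hbad : ∀ m < B, 1 ≤ m → ∀ b : Bool, (b = false → 2 ≤ m) → ¬ N0 b m * ((2 ^ m) ^ 2 + 1) ∣ c) : False := by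
  have h1 := h.N_mul_dvd_card
  rw [hc] at h1
  rcases Nat.lt_or_ge m B with h2 | h2
  · obtain ⟨b, hb1, hb2, -⟩ := h.N0_dvd
    exact hbad m h2 h.one_le b hb1 ((Nat.mul_dvd_mul_right hb2 _).trans h1)
  · have h3 := Nat.le_of_dvd hpos h1
    have h4 := h.le_V.2
    rw [← h.hN] at h4
    have h5 : 3 * (2 ^ m) ^ 4 ≤ 4 * (N * d) := by exact_mod_cast h4
    have h6 : 2 ^ (6 * B) ≤ 2 ^ (6 * m) := Nat.pow_le_pow_right (by norm_num) (by omega)
    have h7 : 2 ^ (6 * m) = (2 ^ m) ^ 4 * (2 ^ m) ^ 2 := by rw [← pow_add, ← pow_mul, mul_comm]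
    have hd : d ≤ 5 := by rcases h.hd with h | h <;> omega
    have h8 : 3 * (2 ^ m) ^ 4 ≤ 20 * N := by
      have : N * d ≤ N * 5 := Nat.mul_le_mul_left _ hd
      omega
    have h9 : 3 * (2 ^ m) ^ 4 * (2 ^ m) ^ 2 ≤ 20 * N * ((2 ^ m) ^ 2 + 1) := Nat.mul_le_mul h8 (Nat.le_succ _)
    have h10 : 3 * (2 ^ m) ^ 4 * (2 ^ m) ^ 2 = 3 * 2 ^ (6 * m) := by rw [h7]; ring
    have h11 : 20 * N * ((2 ^ m) ^ 2 + 1) = 20 * (N * ((2 ^ m) ^ 2 + 1)) := by ring
    omega

variable {F : Type*} [Field F] [Fintype F]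

theorem psl33 (hF : Fintype.card F = 3) (h : C5 ε m N d (Matrix.ProjectiveSpecialLinearGroup (Fin 3) F)) : False := by
  have ho := Cfsg.Agent.S0243.result hF 3 (by norm_num)
  refine h.elim_card 4 (c := 5616) ?_ (by norm_num) (by norm_num) (by decide +kernel)
  norm_num [Fin.prod_univ_succ] at ho
  omega

theorem psl43 (hF : Fintype.card F = 3) (h : C5 ε m N d (Matrix.ProjectiveSpecialLinearGroup (Fin 4) F)) : False := by
  have ho := Cfsg.Agent.S0243.result hF 4 (by norm_num)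
  refine h.elim_card 5 (c := 6065280) ?_ (by norm_num) (by norm_num) (by decide +kernel)
  norm_num [Fin.prod_univ_succ] at ho
  omega

theorem psu33 (hF : Fintype.card F = 3 ^ 2) (h : C5 ε m N d (Cfsg.PSU 3 F 3)) : False := by
  have ho := Cfsg.Agent.S0280.result hF 3 (by norm_num)
  refine h.elim_card 4 (c := 6048) ?_ (by norm_num) (by norm_num) (by decide +kernel)
  norm_num [Finset.prod_range_succ] at ho
  omega

theorem psu35 (hF : Fintype.card F = 5 ^ 2) (h : C5 ε m N d (Cfsg.PSU 3 F 5)) : False := by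
  have ho := Cfsg.Agent.S0280.result hF 3 (by norm_num)
  refine h.elim_card 4 (c := 126000) ?_ (by norm_num) (by norm_num) (by decide +kernel)
  norm_num [Finset.prod_range_succ] at ho
  omega

theorem psu43 (hF : Fintype.card F = 3 ^ 2) (h : C5 ε m N d (Cfsg.PSU 4 F 3)) : False := by
  have ho := Cfsg.Agent.S0280.result hF 4 (by norm_num)
  refine h.elim_card 5 (c := 3265920) ?_ (by norm_num) (by norm_num) (by decide +kernel)
  norm_num [Finset.prod_range_succ] at ho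
  omega

theorem o73 (hF : Fintype.card F = 3) (h : C5 ε m N d (Cfsg.POmega F (Cfsg.quadFormOdd 3 F))) : False := by
  have ho := Cfsg.Agent.S0292.result hF (by decide) 3 (by norm_num)
  refine h.elim_card 6 (c := 4585351680) ?_ (by norm_num) (by norm_num) (by decide +kernel)
  norm_num [Finset.prod_range_succ] at ho
  omega

theorem o8p3 (hF : Fintype.card F = 3) (h : C5 ε m N d (Cfsg.POmega F (Cfsg.quadFormPlus 4 F))) : False := by
  have ho := Cfsg.Agent.S0293.result hF 4 (by norm_num)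
  refine h.elim_card 8 (c := 4952179814400) ?_ (by norm_num) (by norm_num) (by decide +kernel)
  norm_num [Finset.prod_range_succ] at ho
  omega

theorem o8m3 (hF : Fintype.card F = 3) (a b : F)
    (hab : ∀ z₁ z₂ : F, z₁ ^ 2 + a * z₁ * z₂ + b * z₂ ^ 2 = 0 → z₁ = 0 ∧ z₂ = 0)
    (h : C5 ε m N d (Cfsg.POmega F (Cfsg.quadFormMinus 3 F a b))) : False := by
  have ho : Nat.gcd 4 (3 ^ 4 + 1) * Nat.card (Cfsg.POmega F (Cfsg.quadFormMinus 3 F a b)) =
      3 ^ (4 * (4 - 1)) * (3 ^ 4 + 1) * ∏ i ∈ Finset.range (4 - 1), (3 ^ (2 * (i + 1)) - 1) :=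
    Cfsg.Agent.S0294.result hF 4 (by norm_num) a b hab
  refine h.elim_card 8 (c := 10151968619520) ?_ (by norm_num) (by norm_num) (by decide +kernel)
  norm_num [Finset.prod_range_succ] at ho
  omega

end C5

end Cfsg.Agent.H224.Five
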