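import Cfsg.Agent.H224.FiveDefs
import Cfsg.Agent.S2475

/-!
# `C5`: elimination of `PSL 2 u`, `u` odd (helper224)
-/

set_option autoImplicit false

namespace Cfsg.Agent.H224.Five

namespace C5

variable {ε : ℤ} {m N d : ℕ} {S : Type*} [Group S]

theorem a_mod (h : C5 ε m N d S) : ((2 ^ m) ^ 2 + 1) % 4 = 1 ∧ 5 ≤ (2 ^ m) ^ 2 + 1 := by
  have h1 := h.one_le
  obtain ⟨k, rfl⟩ : ∃ k, m = k + 1 := ⟨m - 1, by omega⟩
  have h2 : (2 ^ (k + 1)) ^ 2 = 4 * (2 ^ k) ^ 2 := by ring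
  have h3 : 1 ≤ (2 ^ k) ^ 2 := Nat.one_le_pow _ _ (by positivity)
  omega

/-- The arithmetic: `O` is the odd one of `(u - 1) / 2`, `(u + 1) / 2`, `E` is the even one. -/
theorem arith (h : C5 ε m N d S) {p f O E : ℕ} (hp : p.Prime) (hu : (O < E ∧ p ^ f = 2 * O + 1 ∧ p ^ f + 1 = 2 * E) ∨
      (E < O ∧ p ^ f = 2 * E + 1 ∧ p ^ f + 1 = 2 * O)) (hO : Odd O) (hf : 1 ≤ f)
    (hgO : ∃ g : S, orderOf g = O) (hgE : ∃ g : S, orderOf g = E) (h1 : N ∣ O ∨ N = p)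
    (h2 : (2 ^ m) ^ 2 + 1 ∣ O ∨ (2 ^ m) ^ 2 + 1 = p) : False := by
  obtain ⟨gO, hgO⟩ := hgO
  have hN5 := h.five_lt
  obtain ⟨ha1, ha2⟩ := h.a_mod
  obtain ⟨s, hs, hs'⟩ := Nat.exists_prime_and_dvd (show N ≠ 1 by omega)
  obtain ⟨t, ht, ht'⟩ := Nat.exists_prime_and_dvd (show (2 ^ m) ^ 2 + 1 ≠ 1 by omega)
  have hd := h.hd
  -- the sign
  obtain ⟨δ, hδ, hδu⟩ : ∃ δ : ℤ, (δ = 1 ∨ δ = -1) ∧ ((p ^ f : ℕ) : ℤ) = 2 * O + δ := by
    rcases hu with ⟨-, h3, -⟩ | ⟨-, -, h3⟩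
    · exact ⟨1, Or.inl rfl, by rw [h3]; push_cast; ring⟩
    · exact ⟨-1, Or.inr rfl, by omega⟩
  have hsq := h.sq_dvd_sub
  have key : ∀ z : ℤ, z ≠ 0 → (((2 ^ m) ^ 2 + 1 : ℕ) : ℤ) ∣ z → |z| ≤ 7 → z ≠ 5 → z ≠ -5 → False := by
    intro z hz0 hz hz7 hz5 hz5'
    have h3 : (2 ^ m) ^ 2 + 1 ∣ z.natAbs := Int.natCast_dvd.1 hz
    have h4 := Nat.le_of_dvd (Int.natAbs_pos.2 hz0) h3
    obtain ⟨c, hc⟩ := h3
    have h7 : z.natAbs ≤ 7 := by
      rw [Int.abs_eq_natAbs] at hz7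
      omega
    have h8 : (2 ^ m) ^ 2 + 1 = 5 := by omega
    rw [h8] at hc
    omega
  rcases h1 with h1 | h1 <;> rcases h2 with h2 | h2
  · exact h.not_both gO hs hs' ht ht' (by rw [hgO]; exact hs'.trans h1) (by rw [hgO]; exact ht'.trans h2)
  · -- `q ^ 2 + 1 = p`, `N ∣ O`
    have h3 := h.ten gO s hs hs' (by rw [hgO]; exact hs'.trans h1)
    rw [hgO] at h3
    have h4 : O = N := Nat.dvd_antisymm h3 h1
    have h5 : (((2 ^ m) ^ 2 + 1 : ℕ) : ℤ) ∣ 2 * (N : ℤ) + δ := by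
      rw [← h4, ← hδu]
      rw [h2]
      exact_mod_cast dvd_pow_self p (by omega)
    have h6 : (((2 ^ m) ^ 2 + 1 : ℕ) : ℤ) ∣ 2 + δ * d := by
      obtain ⟨x, hx⟩ := h5
      obtain ⟨y, hy⟩ := hsq
      exact ⟨x * d - 2 * y, by linear_combination d * hx - 2 * hy⟩
    rcases hd with rfl | rfl <;> rcases hδ with rfl | rfl <;>
      exact key _ (by norm_num) h6 (by norm_num) (by norm_num) (by norm_num)
  · -- `N = p`, `q ^ 2 + 1 ∣ O`
    have h3 := h.four gO t ht ht' (by rw [hgO]; exact ht'.trans h2)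
    rw [hgO] at h3
    have hq4 : 16 ≤ (2 ^ m) ^ 4 := by
      calc 16 = 2 ^ 4 := by norm_num
        _ ≤ (2 ^ m) ^ 4 := Nat.pow_le_pow_left h.two_le_q 4
    have h4 := Nat.le_of_dvd (by omega) h3
    have hV := h.le_V.2
    rw [← h.hN] at hV
    have hf1 : f = 1 := by
      by_contra hf1
      have h5 : p ^ 2 ≤ p ^ f := Nat.pow_le_pow_right hp.pos (by omega)
      have h6 : N ^ 2 ≤ 2 * O + 1 := by
        rw [h1]
        rcases hu with ⟨-, h7, -⟩ | ⟨-, -, h7⟩ <;> omega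
      have h7 : N ^ 2 * d ≤ 2 * (2 ^ m) ^ 4 + 5 := by
        calc N ^ 2 * d ≤ (2 * O + 1) * d := Nat.mul_le_mul_right _ h6
          _ = 2 * (O * d) + d := by ring
          _ ≤ 2 * (2 ^ m) ^ 4 + 5 := by
            have : d ≤ 5 := by omega
            omega
      have h8 : 3 * (2 ^ m) ^ 4 ≤ 4 * (N * d) := by exact_mod_cast hV
      have h9 : 6 * (N * d) ≤ N ^ 2 * d := by
        calc 6 * (N * d) ≤ N * (N * d) := Nat.mul_le_mul_right _ (by omega)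
          _ = N ^ 2 * d := by ring
      omega
    subst hf1
    rw [pow_one, ← h1] at hδu
    have h5 : (((2 ^ m) ^ 2 + 1 : ℕ) : ℤ) ∣ 1 - δ * d := by
      obtain ⟨x, hx⟩ := h2
      obtain ⟨y, hy⟩ := hsq
      refine ⟨2 * x * d - y, ?_⟩
      have hx' : (O : ℤ) = (((2 ^ m) ^ 2 + 1 : ℕ) : ℤ) * x := by exact_mod_cast hx
      linear_combination d * hδu - hy + 2 * d * hx'
    rcases hd with rfl | rfl
    · rcases hδ with rfl | rfl
      · -- `δ = 1`, `d = 1`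
        rw [pow_one, ← h1] at hu
        have h6 : N = 2 * O + 1 := by omega
        obtain ⟨j, hj⟩ := hO
        have h7 : (N : ℤ) = V ε m := by rw [← h.hN]; push_cast; ring
        rcases h.cases_q with ⟨h8, h9⟩ | h8
        · rw [h8, h9, V] at h7
          norm_num at h7
          have h10 : N = 31 := by exact_mod_cast h7
          obtain ⟨gE, hgE⟩ := hgE
          refine h.no16 gE ?_
          rw [hgE]
          omega
        · obtain ⟨k, rfl⟩ : ∃ k, m = k + 2 := ⟨m - 2, by omega⟩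
          have h9 : (4 : ℤ) ∣ V ε (k + 2) - 1 := by
            rw [V]
            refine ⟨2 ^ k * ((2 ^ (k + 2)) ^ 3 + ε * (2 ^ (k + 2)) ^ 2 + 2 ^ (k + 2) + ε), ?_⟩
            rw [pow_add 2 k 2]
            ring
          rw [← h7] at h9
          omega
      · exact key _ (by norm_num) h5 (by norm_num) (by norm_num) (by norm_num)
    · rcases hδ with rfl | rfl <;>
      exact key _ (by norm_num) h5 (by norm_num) (by norm_num) (by norm_num)
  · have h3 := h.coprime_sq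
    rw [h1, h2, Nat.coprime_self] at h3
    exact hp.one_lt.ne' h3

/-- Elimination of `PSL 2 u`. -/
theorem psl2 {F : Type*} [Field F] [Fintype F] (hF : Odd (Fintype.card F)) (h4 : 4 ≤ Fintype.card F)
    (h : C5 ε m N d (Matrix.ProjectiveSpecialLinearGroup (Fin 2) F)) : False := by
  obtain ⟨p, hc⟩ := CharP.exists F
  have hp : Fact p.Prime := ⟨CharP.char_is_prime F p⟩
  obtain ⟨f, -, hf⟩ := FiniteField.card F p
  have hsp := Cfsg.Agent.S2475.result (F := F) p h4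
  obtain ⟨k, hk⟩ := hF
  have hgcd : Nat.gcd 2 (Fintype.card F - 1) = 2 := by
    rw [hk, Nat.add_sub_cancel, Nat.gcd_mul_right_right]
  rw [hgcd] at hsp
  have hmem : ∀ c : ℕ, (∃ g : Matrix.ProjectiveSpecialLinearGroup (Fin 2) F, orderOf g = c) ↔
      c ∣ p ∨ c ∣ k ∨ c ∣ k + 1 := by
    intro c
    have h1 : c ∈ Set.range (orderOf : Matrix.ProjectiveSpecialLinearGroup (Fin 2) F → ℕ) ↔
      c ∈ {m : ℕ | m ∣ p ∨ m ∣ (Fintype.card F - 1) / 2 ∨ m ∣ (Fintype.card F + 1) / 2} := by rw [hsp]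
    rw [Set.mem_range, Set.mem_ofPred_eq, hk, show (2 * k + 1 - 1) / 2 = k by omega,
      show (2 * k + 1 + 1) / 2 = k + 1 by omega] at h1
    exact h1
  -- the two numbers
  obtain ⟨O, E, hO, hE, hOE, hcov⟩ : ∃ O E : ℕ, Odd O ∧ Even E ∧ ((O = k ∧ E = k + 1) ∨ (O = k + 1 ∧ E = k)) ∧
      ∀ c : ℕ, c ∣ k ∨ c ∣ k + 1 ↔ c ∣ O ∨ c ∣ E := by
    rcases Nat.even_or_odd k with h1 | h1
    · exact ⟨k + 1, k, h1.add_one, h1, Or.inr ⟨rfl, rfl⟩, fun c => or_comm⟩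
    · exact ⟨k, k + 1, h1, h1.add_one, Or.inl ⟨rfl, rfl⟩, fun c => Iff.rfl⟩
  have hmem' : ∀ c : ℕ, (∃ g : Matrix.ProjectiveSpecialLinearGroup (Fin 2) F, orderOf g = c) ↔
      c ∣ p ∨ c ∣ O ∨ c ∣ E := fun c => by rw [hmem, hcov]
  -- far numbers
  have hfar : ∀ c : ℕ, 1 < c → Odd c → (∃ g : Matrix.ProjectiveSpecialLinearGroup (Fin 2) F, orderOf g = c) →
      (∀ s : ℕ, s.Prime → s ∣ c → ¬ ∃ g : Matrix.ProjectiveSpecialLinearGroup (Fin 2) F, orderOf g = 2 * s) →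
      c ∣ O ∨ c = p := by
    intro c h1 hco h2 h3
    rcases (hmem' c).1 h2 with h5 | h5 | h5
    · rcases (Nat.dvd_prime hp.out).1 h5 with h6 | h6
      · omega
      · exact Or.inr h6
    · exact Or.inl h5
    · exfalso
      obtain ⟨s, hs, hs'⟩ := Nat.exists_prime_and_dvd (show c ≠ 1 by omega)
      apply h3 s hs hs'
      rw [hmem']
      right; right
      have hso : Odd s := Odd.of_dvd_nat hco hs'
      exact (Nat.Coprime.mul_dvd_of_dvd_of_dvd (Nat.coprime_two_left.2 hso) hE.two_dvd (hs'.trans h5))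
  have h5 := h.five_lt
  have ha := h.a_mod.2
  refine h.arith (p := p) (f := f) (O := O) (E := E) hp.out ?_ hO f.pos ((hmem' O).2 (Or.inr (Or.inl dvd_rfl)))
    ((hmem' E).2 (Or.inr (Or.inr dvd_rfl))) ?_ ?_
  · rw [← hf, hk]
    omega
  · refine hfar N (by omega) h.odd_N h.ex_ten ?_
    rintro s hs hs' ⟨g, hg⟩
    exact h.not_two_ten g hs hs' (hg ▸ Dvd.intro_left _ rfl) (hg ▸ Dvd.intro _ rfl)
  · refine hfar _ (by omega) h.odd_sq h.ex_four ?_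
    rintro s hs hs' ⟨g, hg⟩
    exact h.not_two_four g hs hs' (hg ▸ Dvd.intro_left _ rfl) (hg ▸ Dvd.intro _ rfl)

end C5

end Cfsg.Agent.H224.Five
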