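import Mathlib
import Cfsg.Agent.H445.SLThree
import Cfsg.Agent.OddHalf.LongSL.Exc

/-!
# `NoTC` for the Chevalley groups `G₂(3)`, `F₄(3)`, `E₆(3)`, `E₇(3)`, `E₈(3)`
-/

set_option autoImplicit false

namespace Cfsg.Agent.H224.NoTCChev

open Cfsg.Agent.ChevalleyStructure Cfsg.Agent.OddHalf.LongSL Cfsg.Agent.H445

section Rgd

open Cfsg.Agent.ChevalleyStructure.CoxeterGeom Cfsg.Agent.Tits.Roots Cfsg.Agent.Nodes.Reps Cfsg.Agent.Nodes.BNOf
  Cfsg.Agent.Nodes.Bruhat Cfsg.Agent.Nodes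

variable {I W Y : Type*} [Fintype I] [DecidableEq I] [Group W] [Group Y] {M : CoxeterMatrix I}
  {cs : CoxeterSystem M W} {A : I → I → ℤ} {h : IsCartan M A} {p : ℕ} {T : Subgroup Y} {n : I → Y}
  {X : (I → ℤ) → Subgroup Y}

/-- The subnormality in `hasLong_of_rgd`. -/
theorem sub_of_rgd [Finite W] (R : RGD cs h p T n X) (hp2 : Odd p) (hG : GG cs h T X = ⊤) {a : I → ℤ}
    (ha : IsRoot cs h a) {F : Type} [Field F] 
    (φ : Matrix.SpecialLinearGroup (Fin 2) F →* Y) {j : Y}
    (hjT : j ∈ T) (hr : φ.range = JX X j a)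
    (hx : ∀ x, IsRoot cs h x → x ≠ a → x ≠ -a → (∀ u ∈ X x, j * u * j⁻¹ = u⁻¹) ∨
      ∀ u ∈ X x, ∀ v ∈ φ.range, u * v = v * u) :
    (φ.range.subgroupOf (Subgroup.centralizer ({j} : Set Y))).IsSubnormal := by
  rw [hr]
  refine main R hjT ha (fun x hxr h1 h2 u hu v hv => ?_) hG
  rcases hx x hxr h1 h2 with h3 | h3
  · have h4 : u * u = 1 := by
      have h5 := h3 u (mem_ZX.1 hu).1
      rw [(mem_ZX.1 hu).2, mul_inv_cancel_right] at h5
      nth_rewrite 1 [h5]
      rw [inv_mul_cancel]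
    have h5 : u = 1 := by
      obtain ⟨k, hk⟩ := R.pgrp' hxr ⟨u, (mem_ZX.1 hu).1⟩
      have h6 : u ^ p ^ k = 1 := congrArg Subtype.val hk
      have h7 : orderOf u ∣ 2 := orderOf_dvd_of_pow_eq_one (by rw [pow_two, h4])
      have h8 : orderOf u ∣ p ^ k := orderOf_dvd_of_pow_eq_one h6
      have h9 : orderOf u ∣ 1 := by
        have hc : Nat.Coprime 2 (p ^ k) := Nat.Coprime.pow_right _ (Nat.coprime_two_left.2 hp2)
        rw [← hc]
        exact Nat.dvd_gcd h7 h8
      rwa [Nat.dvd_one, orderOf_eq_one_iff] at h9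
    subst h5
    rw [one_mul, mul_one]
  · exact h3 u (mem_ZX.1 hu).1 v (by rw [hr]; exact hv)

end Rgd

section Chev

open Cfsg Cfsg.Lie Cfsg.Lie.ChevalleyDatum
open Cfsg.Agent.ChevalleyStructure.Elts Cfsg.Agent.ChevalleyStructure.NPerm
open Cfsg.Agent.ChevalleyStructure.CoxeterGeom Cfsg.Agent.Tits.Roots
open Cfsg.Agent.Nodes.Reps Cfsg.Agent.Nodes.BNOf Cfsg.Agent.Nodes.RGDChev Cfsg.Agent.Nodes.Bruhat
open Cfsg.Agent.OddHalf.LongSL.Chev Cfsg.Agent.Nodes

variable {D : ChevalleyDatum} {l : ℕ} {M : CoxeterMatrix (Fin l)} (hp : IsType D l M) (K : Type) [Field K]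

theorem nmat_sq' {F : Type*} [Field F] : SL2Hom.up (1 : F) * SL2Hom.lo (-1) * SL2Hom.up 1 *
    (SL2Hom.up (1 : F) * SL2Hom.lo (-1) * SL2Hom.up 1) = -1 := by
  apply Subtype.ext
  show (!![1, 1; 0, 1] * !![1, 0; -1, 1] * !![1, 1; 0, 1] *
    (!![1, 1; 0, 1] * !![1, 0; -1, 1] * !![1, 1; 0, 1]) : Matrix (Fin 2) (Fin 2) F) = -1
  rw [Matrix.one_fin_two]
  ext i j
  fin_cases i <;> fin_cases j <;> simp

theorem up_mul {F : Type*} [Field F] (a b : F) : SL2Hom.up a * SL2Hom.up b = SL2Hom.up (a + b) := by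
  apply Subtype.ext
  show (!![1, a; 0, 1] * !![1, b; 0, 1] : Matrix (Fin 2) (Fin 2) F) = !![1, a + b; 0, 1]
  ext i j
  fin_cases i <;> fin_cases j <;> simp [add_comm]

theorem up_zero {F : Type*} [Field F] : SL2Hom.up (0 : F) = 1 := by
  apply Subtype.ext
  show (!![1, 0; 0, 1] : Matrix (Fin 2) (Fin 2) F) = 1
  rw [Matrix.one_fin_two]

include hp in
/-- `NoTC` from the table. -/
theorem noTC_of_chk [Fintype K] (hK3 : Fintype.card K = 3) (i b : Fin l) (h1 : chk D i = true)
    (h2 : chkOdd D i = true) (hb : D.cartan b (D.simple i) = -1 ∨ D.cartan b (D.simple i) = -3)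
    (hb' : D.cartan b (D.neg (D.simple i)) = 1 ∨ D.cartan b (D.neg (D.simple i)) = 3) :
    NoTC ↥(D.group K) := by
  classical
  have hK : Odd (Fintype.card K) := by rw [hK3]; decide
  obtain ⟨p, hpc⟩ := CharP.exists K
  have hpp : p.Prime := (CharP.char_is_prime_or_zero K p).resolve_right (CharP.char_ne_zero_of_finite K p)
  have : Fact p.Prime := ⟨hpp⟩
  have h2K : (2 : K) ≠ 0 := two_ne_of_odd hK
  have hp2 : Odd p := by
    rcases hpp.eq_two_or_odd' with rfl | h
    · exact absurd (by exact_mod_cast CharP.cast_eq_zero K 2) h2K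
    · exact h
  have h3K : (3 : K) = 0 := by
    have h3 := FiniteField.cast_card_eq_zero K
    rw [hK3] at h3
    exact_mod_cast h3
  let cs : CoxeterSystem M M.Group := M.toCoxeterSystem
  have hfin : Finite M.Group := finite_W hp cs
  have hr := simple_lt hp.inList (lt_rank hp i)
  have hnr := neg_lt hp.inList hr
  have hinj : Function.Injective (phi hp K i) := by
    rw [injective_iff_map_eq_one]
    intro g hg
    have hg' : SL2Hom.phi (SL2All.good_of_mem D hp.inList (D.simple i) hr) K g = 1 := congrArg Subtype.val hg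
    rcases phi_eq_one _ hg' with h | h
    · exact h
    · exfalso
      rw [h] at hg
      have h3 : hG hp.inList (D.simple i) (-1 : K) = 1 := by rw [← phi_neg_one hp K i, hg]; rfl
      obtain ⟨s, hs, hs'⟩ := List.any_eq_true.1 h2
      rw [List.mem_range] at hs
      have h4 := conj_hG hp K i hs (-1) (neg_ne_zero.2 one_ne_zero) 1
      rw [h3, one_mul, inv_one, mul_one, beq_iff_eq.1 hs', zpow_one, mul_one] at h4
      have h5 := xG_injective hp.inList hs h4
      apply h2K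
      linear_combination h5
  have hjT : phi hp K i (-1) ∈ (D.diagonalSubgroup K).subgroupOf (D.group K) := by
    rw [Subgroup.mem_subgroupOf, phi_neg_one]
    exact hG_mem_diagonal hp.inList hr (neg_ne_zero.2 one_ne_zero)
  have hrange : (phi hp K i).range = JX (fun x => (XV D l K x).subgroupOf (D.group K)) (phi hp K i (-1)) (sr i) := by
    refine range_eq_JX _ rfl ?_ ?_ ?_ ?_
    · intro t
      rw [Subgroup.mem_subgroupOf, phi_up, XV_sr hp i]
      exact xG_mem_rootSubgroup _ _ _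
    · intro t
      rw [Subgroup.mem_subgroupOf, phi_lo, XV_neg_sr hp i]
      exact xG_mem_rootSubgroup _ _ _
    · intro u hu _
      rw [Subgroup.mem_subgroupOf, XV_sr hp i, mem_rootSubgroup_iff hp.inList] at hu
      obtain ⟨t, ht⟩ := hu
      exact ⟨t, Subtype.ext (by rw [phi_up, ht])⟩
    · intro u hu _
      rw [Subgroup.mem_subgroupOf, XV_neg_sr hp i, mem_rootSubgroup_iff hp.inList] at hu
      obtain ⟨t, ht⟩ := hu
      exact ⟨t, Subtype.ext (by rw [phi_lo, ht])⟩
  have hsub := sub_of_rgd (rgd (K := K) hp cs p) hp2 (KFacts.RgdRigid.GG_eq_top (G1_eq_top hp cs))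
    (isRoot_sr cs hp.isCartan i) (phi hp K i) hjT hrange (by
    intro x hx hx1 hx2
    obtain ⟨s, hs, rfl⟩ := (isRoot_iff hp cs x).1 hx
    have hs1 : s ≠ D.simple i := by
      rintro rfl
      exact hx1 (vec_simple hp i)
    have hs2 : s ≠ D.neg (D.simple i) := by
      rintro rfl
      exact hx2 (by rw [vec_neg hp hr, vec_simple hp i])
    have h3 := List.all_eq_true.1 h1 s (List.mem_range.2 hs)
    simp only [Bool.or_eq_true, beq_iff_eq, Bool.and_eq_true, List.isEmpty_iff, hs1, hs2, false_or] at h3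
    have hinv : D.cartan i s = 1 ∨ D.cartan i s = -1 → ∀ u ∈ (XV D l K (vec D l s)).subgroupOf (D.group K),
        phi hp K i (-1) * u * (phi hp K i (-1))⁻¹ = u⁻¹ := by
      intro h4 u hu
      rw [Subgroup.mem_subgroupOf, XV_vec hp K hs, mem_rootSubgroup_iff hp.inList] at hu
      obtain ⟨t, ht⟩ := hu
      apply Subtype.ext
      rw [Subgroup.coe_mul, Subgroup.coe_mul, Subgroup.coe_inv, Subgroup.coe_inv, phi_neg_one, ht,
        conj_hG hp K i hs (-1) (neg_ne_zero.2 one_ne_zero), xG_inv]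
      congr 1
      rcases h4 with h4 | h4
      · rw [h4, zpow_one, neg_one_mul]
      · rw [h4, zpow_neg, zpow_one, inv_neg, inv_one, neg_one_mul]
    rcases h3 with (h3 | h3) | ⟨h3, h4⟩
    · left; exact hinv (Or.inl h3)
    · left; exact hinv (Or.inr h3)
    · right
      intro u hu
      rw [Subgroup.mem_subgroupOf, XV_vec hp K hs, mem_rootSubgroup_iff hp.inList] at hu
      obtain ⟨t, ht⟩ := hu
      refine commute_range _ ?_ ?_
      · intro c
        apply Subtype.ext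
        rw [Subgroup.coe_mul, Subgroup.coe_mul, phi_up, ht]
        exact commute_xG hp K hr hs hs1 hs2 h3 c t
      · intro c
        apply Subtype.ext
        rw [Subgroup.coe_mul, Subgroup.coe_mul, phi_lo, ht]
        exact commute_xG hp K hnr hs hs2 (by rw [RootVec.neg_neg hp.checked hr]; exact hs1) h4 c t)
  -- the element inverting `y`
  set w : ↥(D.group K) := phi hp K b (-1) with hw
  have hwu : ∀ t : K, w * phi hp K i (SL2Hom.up t) * w⁻¹ = phi hp K i (SL2Hom.up (-t)) := by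
    intro t
    apply Subtype.ext
    rw [Subgroup.coe_mul, Subgroup.coe_mul, Subgroup.coe_inv, hw, phi_neg_one, phi_up, phi_up,
      conj_hG hp K b hr (-1) (neg_ne_zero.2 one_ne_zero)]
    congr 1
    rcases hb with h | h <;> rw [h] <;> norm_num
  have hwl : ∀ t : K, w * phi hp K i (SL2Hom.lo t) * w⁻¹ = phi hp K i (SL2Hom.lo (-t)) := by
    intro t
    apply Subtype.ext
    rw [Subgroup.coe_mul, Subgroup.coe_mul, Subgroup.coe_inv, hw, phi_neg_one, phi_lo, phi_lo,
      conj_hG hp K b hnr (-1) (neg_ne_zero.2 one_ne_zero)]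
    congr 1
    rcases hb' with h | h <;> rw [h] <;> norm_num
  have hww : w * w = 1 := by
    rw [hw, ← map_mul, neg_mul_neg, one_mul, map_one]
  have hwj : w * phi hp K i (-1) * w⁻¹ = phi hp K i (-1) := by
    have e1 : phi hp K i (-1) = phi hp K i (SL2Hom.up (-1)) * phi hp K i (SL2Hom.lo 1) * phi hp K i (SL2Hom.up (-1)) *
        (phi hp K i (SL2Hom.up (-1)) * phi hp K i (SL2Hom.lo 1) * phi hp K i (SL2Hom.up (-1))) := by
      rw [← map_mul, ← map_mul, ← map_mul, nmat_sq]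
    have e2 : phi hp K i (-1) = phi hp K i (SL2Hom.up 1) * phi hp K i (SL2Hom.lo (-1)) * phi hp K i (SL2Hom.up 1) *
        (phi hp K i (SL2Hom.up 1) * phi hp K i (SL2Hom.lo (-1)) * phi hp K i (SL2Hom.up 1)) := by
      rw [← map_mul, ← map_mul, ← map_mul, nmat_sq']
    conv_lhs => rw [e1]
    have e3 := hwu (-1)
    have e4 := hwl 1
    rw [neg_neg] at e3
    have e5 : ∀ a c : ↥(D.group K), w * (a * c * a * (a * c * a)) * w⁻¹ =
        (w * a * w⁻¹) * (w * c * w⁻¹) * (w * a * w⁻¹) * ((w * a * w⁻¹) * (w * c * w⁻¹) * (w * a * w⁻¹)) := by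
      intro a c; group
    rw [e5, e3, e4, ← e2]
  have hjj : phi hp K i (-1) * phi hp K i (-1) = 1 := by
    rw [← map_mul, neg_mul_neg, one_mul, map_one]
  refine NoTC.of_sl3 (j := phi hp K i (-1)) (J := (phi hp K i).range) ⟨1, by rw [pow_one, pow_two, hjj]⟩ ?_ hsub hK3
    (MonoidHom.ofInjective hinj).symm (y := phi hp K i (SL2Hom.up 1)) (w := w) ⟨_, rfl⟩ ?_ ?_ ?_
    ⟨1, by rw [pow_one, pow_two, hww]⟩ (Or.inl ?_)
  · rintro _ ⟨g, rfl⟩
    rw [Subgroup.mem_centralizer_singleton_iff, ← map_mul, ← map_mul]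
    congr 1
    rw [neg_one_mul, mul_neg_one]
  · intro h
    rw [map_eq_one_iff _ hinj] at h
    have h3 := congrArg (fun g : Matrix.SpecialLinearGroup (Fin 2) K => (g : Matrix (Fin 2) (Fin 2) K) 0 1) h
    simp [SL2Hom.up] at h3
  · have e : (SL2Hom.up (1 : K)) ^ 3 = 1 := by
      rw [pow_succ, pow_two, up_mul, up_mul, ← up_zero]
      congr 1
      linear_combination h3K
    rw [← map_pow, e, map_one]
  · rw [mul_inv_eq_iff_eq_mul] at hwj
    exact hwj
  · rw [hwu, ← map_inv]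
    congr 1
    rw [eq_comm, inv_eq_iff_mul_eq_one, up_mul, add_neg_cancel, up_zero]

theorem noTC_chev3 {F : Type} [Field F] [Fintype F] (hF : Fintype.card F = 3) :
    NoTC ↥(Cfsg.Lie.chevG2.group F) ∧ NoTC ↥(Cfsg.Lie.chevF4.group F) ∧ NoTC ↥(Cfsg.Lie.chevE6.group F) ∧
      NoTC ↥(Cfsg.Lie.chevE7.group F) ∧ NoTC ↥(Cfsg.Lie.chevE8.group F) := by
  have h1 := (Bool.and_eq_true _ _).mp chk_G2
  have h2 := (Bool.and_eq_true _ _).mp chk_F4
  have h3 := (Bool.and_eq_true _ _).mp chk_E6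
  have h4 := (Bool.and_eq_true _ _).mp chk_E7
  have h5 := (Bool.and_eq_true _ _).mp chk_E8
  refine ⟨?_, ?_, ?_, ?_, ?_⟩
  · exact noTC_of_chk (l := 2) (M := CoxeterMatrix.G₂) (by simp [IsType, typeList]) F hF 1 0 h1.1 h1.2
      (by decide +kernel) (by decide +kernel)
  · exact noTC_of_chk (l := 4) (M := CoxeterMatrix.F₄) (by simp [IsType, typeList]) F hF 3 2 h2.1 h2.2
      (by decide +kernel) (by decide +kernel)
  · exact noTC_of_chk (l := 6) (M := CoxeterMatrix.E₆) (by simp [IsType, typeList]) F hF 0 2 h3.1 h3.2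
      (by decide +kernel) (by decide +kernel)
  · exact noTC_of_chk (l := 7) (M := CoxeterMatrix.E₇) (by simp [IsType, typeList]) F hF 0 2 h4.1 h4.2
      (by decide +kernel) (by decide +kernel)
  · exact noTC_of_chk (l := 8) (M := CoxeterMatrix.E₈) (by simp [IsType, typeList]) F hF 0 2 h5.1 h5.2
      (by decide +kernel) (by decide +kernel)

end Chev

end Cfsg.Agent.H224.NoTCChev
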