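import Cfsg.Prelude.Def_LocalStructure
import Cfsg.Agent.Lib.Cores
import Cfsg.Agent.PLocal.ZJReduction

/-!
# p-reduced normal subgroups, `Y_L = largestPReduced p L`, `Z_L = sylowCenterClosure p L`

* `isPReducedNormal_iff`: element criterion for `Cfsg.IsPReducedNormal` in a finite group.
* `isPReducedNormal_largestPReduced`: `Y_L` is itself `p`-reduced (finite `L`).
* `largestPReduced_le_omegaOne`: `Y_L ≤ Ω₁(Z(O_p(L)))`; ambient form `largestPReducedOf_le_omegaOne`.
* `isPReducedNormal_sylowClosure`: if `C_L(O_p(L)) ≤ O_p(L)` then the join of the `Ω₁(Z(S))`, `S ∈ Syl_p(L)` is `p`-reduced;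
  ambient form `sylowCenterClosure_le_largestPReducedOf`.
* `largestPReducedOf_le_of_sup_eq`: `L C_H(Y_M) = M C_H(Y_M)` and `Y_M ≤ L` imply `Y_M ≤ Y_L`.
-/

set_option autoImplicit false
set_option linter.style.haveILetI false

namespace Cfsg.Agent.H224.YL

open Cfsg Subgroup
open scoped commutatorElement

section abs

variable {L : Type*} [Group L]

/-- A normal subgroup `D` above the kernel all of whose elements have a `p`-power power in the normal subgroup `C` lies in
`C` if `O_p(L/C) = 1`. -/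
theorem le_of_pCore_quotient_eq_bot {p : ℕ} {C : Subgroup L} [C.Normal]
    (h : pCore p (L ⧸ C) = ⊥) {D : Subgroup L} (hD : D.Normal)
    (hk : ∀ x ∈ D, ∃ k : ℕ, x ^ p ^ k ∈ C) : D ≤ C := by
  have h1 : D.map (QuotientGroup.mk' C) ≤ pCore p (L ⧸ C) := by
    apply Lib.Cores.le_pCore
    · exact hD.map _ (QuotientGroup.mk'_surjective C)
    · rintro ⟨_, x, hx, rfl⟩
      obtain ⟨k, hk⟩ := hk x hx
      refine ⟨k, Subtype.ext ?_⟩
      show (QuotientGroup.mk' C x) ^ p ^ k = 1
      rw [← map_pow]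
      exact (QuotientGroup.eq_one_iff _).2 hk
  rw [h, le_bot_iff, Subgroup.map_eq_bot_iff, QuotientGroup.ker_mk'] at h1
  exact h1

theorem pCore_quotient_eq_bot {p : ℕ} {C : Subgroup L} [C.Normal]
    (h : ∀ D : Subgroup L, D.Normal → C ≤ D → (∀ x ∈ D, ∃ k : ℕ, x ^ p ^ k ∈ C) → D ≤ C) :
    pCore p (L ⧸ C) = ⊥ := by
  set D : Subgroup L := (pCore p (L ⧸ C)).comap (QuotientGroup.mk' C) with hDdef
  haveI : (pCore p (L ⧸ C)).Normal := Lib.Cores.pCore_normal p
  have hD : D.Normal := inferInstance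
  have hCD : C ≤ D := by
    intro x hx
    rw [hDdef, mem_comap]
    have : QuotientGroup.mk' C x = 1 := (QuotientGroup.eq_one_iff _).2 hx
    rw [this]; exact one_mem _
  have h1 := h D hD hCD ?_
  · rw [eq_bot_iff]
    intro y hy
    obtain ⟨x, rfl⟩ := QuotientGroup.mk'_surjective C y
    have : x ∈ D := hy
    rw [mem_bot]
    exact (QuotientGroup.eq_one_iff _).2 (h1 this)
  · intro x hx
    have hx' : QuotientGroup.mk' C x ∈ pCore p (L ⧸ C) := hx
    obtain ⟨k, hk⟩ := (Lib.Cores.pCore_isPGroup p) ⟨_, hx'⟩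
    refine ⟨k, ?_⟩
    have h2 : (QuotientGroup.mk' C x) ^ p ^ k = 1 := congrArg Subtype.val hk
    rw [← map_pow] at h2
    exact (QuotientGroup.eq_one_iff _).1 h2

/-- **Element criterion** for `p`-reduced normal subgroups. -/
theorem isPReducedNormal_iff {p : ℕ} {V : Subgroup L} :
    IsPReducedNormal p V ↔ V.Normal ∧ IsElementaryAbelian p V ∧
      ∀ D : Subgroup L, D.Normal → centralizer (V : Set L) ≤ D →
        (∀ x ∈ D, ∃ k : ℕ, x ^ p ^ k ∈ centralizer (V : Set L)) → D ≤ centralizer (V : Set L) := by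
  constructor
  · rintro ⟨h1, h2, h3, h4⟩
    exact ⟨h1, h2, fun D hD _ hk => le_of_pCore_quotient_eq_bot h4 hD hk⟩
  · rintro ⟨h1, h2, h3⟩
    haveI : (centralizer (V : Set L)).Normal := inferInstance
    exact ⟨h1, h2, this, pCore_quotient_eq_bot h3⟩

theorem isPGroup_of_isElementaryAbelian {p : ℕ} {V : Subgroup L} (h : IsElementaryAbelian p V) :
    IsPGroup p V := by
  rintro ⟨x, hx⟩
  exact ⟨1, Subtype.ext (by simpa using h.2 x hx)⟩

/-- `O_p(L)` centralizes every `p`-reduced normal subgroup. -/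
theorem pCore_le_centralizer {p : ℕ} {V : Subgroup L}
    (h : IsPReducedNormal p V) : pCore p L ≤ centralizer (V : Set L) := by
  obtain ⟨h1, h2, h3, h4⟩ := h
  refine le_of_pCore_quotient_eq_bot h4 (Lib.Cores.pCore_normal p) ?_
  intro x hx
  obtain ⟨k, hk⟩ := (Lib.Cores.pCore_isPGroup p) ⟨x, hx⟩
  refine ⟨k, ?_⟩
  have : x ^ p ^ k = 1 := congrArg Subtype.val hk
  rw [this]; exact one_mem _

theorem le_pCore {p : ℕ} {V : Subgroup L}
    (h : IsPReducedNormal p V) : V ≤ pCore p L :=
  Lib.Cores.le_pCore h.1 (isPGroup_of_isElementaryAbelian h.2.1)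

theorem largestPReduced_le_pCore (p : ℕ) : largestPReduced p L ≤ pCore p L :=
  sSup_le fun _ hV => le_pCore hV

theorem pCore_le_centralizer_largest (p : ℕ) :
    pCore p L ≤ centralizer (largestPReduced p L : Set L) := by
  rw [← Subgroup.le_centralizer_iff]
  exact sSup_le fun V hV => Subgroup.le_centralizer_iff.1 (pCore_le_centralizer hV)

theorem largestPReduced_normal (p : ℕ) : (largestPReduced p L).Normal :=
  Lib.Cores.sSup_normal _ fun _ hV => hV.1

theorem isElementaryAbelian_largest (p : ℕ) : IsElementaryAbelian p (largestPReduced p L) := by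
  have hc : ∀ x ∈ largestPReduced p L, ∀ y ∈ largestPReduced p L, x * y = y * x := by
    intro x hx y hy
    have := (mem_centralizer_iff.1
      (pCore_le_centralizer_largest (L := L) p (largestPReduced_le_pCore p hx))) y hy
    exact this.symm
  refine ⟨⟨⟨?_⟩⟩, ?_⟩
  · rintro ⟨x, hx⟩ ⟨y, hy⟩
    exact Subtype.ext (hc x hx y hy)
  · intro x hx
    have hx0 := hx
    unfold largestPReduced at hx
    rw [sSup_eq_iSup', Subgroup.iSup_eq_closure] at hx
    have hle : ∀ y ∈ (⋃ i : {V : Subgroup L | IsPReducedNormal p V}, ((i : Subgroup L) : Set L)),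
        y ∈ largestPReduced p L ∧ y ^ p = 1 := by
      intro y hy
      obtain ⟨⟨V, hV⟩, hyV⟩ := Set.mem_iUnion.1 hy
      exact ⟨le_sSup (a := V) hV hyV, hV.2.1.2 y hyV⟩
    have : x ∈ largestPReduced p L ∧ x ^ p = 1 := by
      induction hx using Subgroup.closure_induction with
      | mem y hy => exact hle y hy
      | one => exact ⟨one_mem _, one_pow _⟩
      | mul x y _ _ hx hy =>
        have h1 := hx (by
          rename_i h1 h2
          have : Subgroup.closure (⋃ i : {V : Subgroup L | IsPReducedNormal p V},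
            ((i : Subgroup L) : Set L)) ≤ largestPReduced p L := by
            rw [Subgroup.closure_le]
            exact fun y hy => (hle y hy).1
          exact this h1)
        have h2 := hy (by
          rename_i h2' h3
          have : Subgroup.closure (⋃ i : {V : Subgroup L | IsPReducedNormal p V},
            ((i : Subgroup L) : Set L)) ≤ largestPReduced p L := by
            rw [Subgroup.closure_le]
            exact fun y hy => (hle y hy).1
          exact this h3)
        refine ⟨mul_mem h1.1 h2.1, ?_⟩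
        have : Commute x y := hc x h1.1 y h2.1
        rw [this.mul_pow, h1.2, h2.2, one_mul]
      | inv x _ hx =>
        have h1 := hx (by
          rename_i h1
          have : Subgroup.closure (⋃ i : {V : Subgroup L | IsPReducedNormal p V},
            ((i : Subgroup L) : Set L)) ≤ largestPReduced p L := by
            rw [Subgroup.closure_le]
            exact fun y hy => (hle y hy).1
          exact this h1)
        exact ⟨inv_mem h1.1, by rw [inv_pow, h1.2, inv_one]⟩
    exact this.2

/-- `Y_L` is itself a `p`-reduced normal subgroup. -/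
theorem isPReducedNormal_largestPReduced (p : ℕ) : IsPReducedNormal p (largestPReduced p L) := by
  rw [isPReducedNormal_iff]
  refine ⟨largestPReduced_normal p, isElementaryAbelian_largest p, ?_⟩
  intro D hD _ hk
  rw [← Subgroup.le_centralizer_iff]
  refine sSup_le fun V hV => Subgroup.le_centralizer_iff.1 ?_
  have hV' : IsPReducedNormal p V := hV
  obtain ⟨h1, h2, h3, h4⟩ := hV'
  refine le_of_pCore_quotient_eq_bot h4 hD fun x hx => ?_
  obtain ⟨k, hk⟩ := hk x hx
  exact ⟨k, Subgroup.centralizer_le (fun v hv => (le_sSup (a := V) hV : V ≤ largestPReduced p L) hv) hk⟩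

theorem le_largestPReduced {p : ℕ} {V : Subgroup L} (hV : IsPReducedNormal p V) :
    V ≤ largestPReduced p L := le_sSup hV

/-- the set generating `Z_L` -/
def zSet (p : ℕ) (L : Type*) [Group L] : Set L :=
  {x | ∃ S : Sylow p L, x ∈ (S : Subgroup L) ∧ x ∈ centralizer ((S : Subgroup L) : Set L) ∧ x ^ p = 1}

theorem zSet_subset {p : ℕ} (hL : centralizer (pCore p L : Set L) ≤ pCore p L) {x : L}
    (hx : x ∈ zSet p L) : x ∈ pCore p L ∧ x ∈ centralizer (pCore p L : Set L) ∧ x ^ p = 1 := by
  obtain ⟨S, h1, h2, h3⟩ := hx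
  have h4 : x ∈ centralizer (pCore p L : Set L) :=
    Subgroup.centralizer_le (fun y hy => Lib.Cores.pCore_le_sylow S hy) h2
  exact ⟨hL h4, h4, h3⟩

/-- If `C_L(O_p(L)) ≤ O_p(L)`, then the subgroup generated by the `Ω₁(Z(S))`, `S ∈ Syl_p(L)`, is `p`-reduced. -/
theorem isPReducedNormal_closure_zSet [Finite L] {p : ℕ} [Fact p.Prime]
    (hL : centralizer (pCore p L : Set L) ≤ pCore p L) :
    IsPReducedNormal p (Subgroup.closure (zSet p L)) := by
  have hle : Subgroup.closure (zSet p L) ≤ pCore p L :=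
    (Subgroup.closure_le _).2 fun x hx => (zSet_subset hL hx).1
  have hcen : Subgroup.closure (zSet p L) ≤ centralizer (pCore p L : Set L) :=
    (Subgroup.closure_le _).2 fun x hx => (zSet_subset hL hx).2.1
  have hc : ∀ x ∈ Subgroup.closure (zSet p L), ∀ y ∈ Subgroup.closure (zSet p L),
      x * y = y * x := by
    intro x hx y hy
    exact ((mem_centralizer_iff.1 (hcen hx)) y (hle hy)).symm
  rw [isPReducedNormal_iff]
  refine ⟨?_, ⟨⟨⟨?_⟩⟩, ?_⟩, ?_⟩
  · constructor
    intro n hn g
    induction hn using Subgroup.closure_induction with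
    | mem x hx =>
      apply Subgroup.subset_closure
      obtain ⟨S, h1, h2, h3⟩ := hx
      refine ⟨g • S, ?_, ?_, ?_⟩
      · exact ⟨x, h1, by simp⟩
      · rw [mem_centralizer_iff]
        rintro _ ⟨y, hy, rfl⟩
        have := (mem_centralizer_iff.1 h2) y hy
        simp only [MulDistribMulAction.toMonoidEnd_apply, MulDistribMulAction.toMonoidHom_apply,
          MulAut.smul_def, MulAut.conj_apply]
        calc g * y * g⁻¹ * (g * x * g⁻¹) = g * (y * x) * g⁻¹ := by group
          _ = g * (x * y) * g⁻¹ := by rw [this]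
          _ = g * x * g⁻¹ * (g * y * g⁻¹) := by group
      · rw [conj_pow, h3]; group
    | one => simp
    | mul x y _ _ hx hy =>
      have : g * (x * y) * g⁻¹ = (g * x * g⁻¹) * (g * y * g⁻¹) := by group
      rw [this]; exact mul_mem hx hy
    | inv x _ hx =>
      have : g * x⁻¹ * g⁻¹ = (g * x * g⁻¹)⁻¹ := by group
      rw [this]; exact inv_mem hx
  · rintro ⟨x, hx⟩ ⟨y, hy⟩
    exact Subtype.ext (hc x hx y hy)
  · intro x hx
    have : x ∈ Subgroup.closure (zSet p L) ∧ x ^ p = 1 := by
      induction hx using Subgroup.closure_induction with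
      | mem y hy => exact ⟨Subgroup.subset_closure hy, (zSet_subset hL hy).2.2⟩
      | one => exact ⟨one_mem _, one_pow _⟩
      | mul x y hx' hy' hx hy =>
        refine ⟨mul_mem hx' hy', ?_⟩
        have : Commute x y := hc x hx' y hy'
        rw [this.mul_pow, hx.2, hy.2, one_mul]
      | inv x hx' hx => exact ⟨inv_mem hx', by rw [inv_pow, hx.2, inv_one]⟩
    exact this.2
  · intro D hD hCD hk
    rw [← Subgroup.le_centralizer_iff, Subgroup.closure_le]
    rintro x ⟨S, h1, h2, h3⟩
    show x ∈ centralizer (D : Set L)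
    rw [mem_centralizer_iff]
    intro d hd
    set C := centralizer (Subgroup.closure (zSet p L) : Set L) with hC
    have hzn : (Subgroup.closure (zSet p L)).Normal := by
      constructor
      intro n hn g
      induction hn using Subgroup.closure_induction with
      | mem x hx =>
        apply Subgroup.subset_closure
        obtain ⟨S, h1, h2, h3⟩ := hx
        refine ⟨g • S, ?_, ?_, ?_⟩
        · exact ⟨x, h1, by simp⟩
        · rw [mem_centralizer_iff]
          rintro _ ⟨y, hy, rfl⟩
          have := (mem_centralizer_iff.1 h2) y hy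
          simp only [MulDistribMulAction.toMonoidEnd_apply, MulDistribMulAction.toMonoidHom_apply,
            MulAut.smul_def, MulAut.conj_apply]
          calc g * y * g⁻¹ * (g * x * g⁻¹) = g * (y * x) * g⁻¹ := by group
            _ = g * (x * y) * g⁻¹ := by rw [this]
            _ = g * x * g⁻¹ * (g * y * g⁻¹) := by group
        · rw [conj_pow, h3]; group
      | one => simp
      | mul x y _ _ hx hy =>
        have : g * (x * y) * g⁻¹ = (g * x * g⁻¹) * (g * y * g⁻¹) := by group
        rw [this]; exact mul_mem hx hy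
      | inv x _ hx =>
        have : g * x⁻¹ * g⁻¹ = (g * x * g⁻¹)⁻¹ := by group
        rw [this]; exact inv_mem hx
    haveI hCn : C.Normal := by rw [hC]; infer_instance
    let N : Subgroup (L ⧸ C) := D.map (QuotientGroup.mk' C)
    haveI hNn : N.Normal := hD.map _ (QuotientGroup.mk'_surjective C)
    have hNp : IsPGroup p N := by
      rintro ⟨_, y, hy, rfl⟩
      obtain ⟨k, hk⟩ := hk y hy
      refine ⟨k, Subtype.ext ?_⟩
      show (QuotientGroup.mk' C y) ^ p ^ k = 1
      rw [← map_pow]
      exact (QuotientGroup.eq_one_iff _).2 hk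
    obtain ⟨s, hs, c, hc, rfl⟩ := PLocal.SylowFixed.exists_mul_of_mk_mem C N hNp S
      (g := d) (mem_map_of_mem _ hd)
    have hxs := (mem_centralizer_iff.1 h2) s hs
    have hxc := (mem_centralizer_iff.1 hc) x (Subgroup.subset_closure ⟨S, h1, h2, h3⟩)
    calc s * c * x = s * (c * x) := by group
      _ = s * (x * c) := by rw [hxc]
      _ = (s * x) * c := by group
      _ = (x * s) * c := by rw [hxs]
      _ = x * (s * c) := by group

end abs

section ambient

variable {H : Type*} [Group H]

theorem exists_mul_of_mem_sup {D C : Subgroup H} (hDC : D ≤ normalizer (C : Set H)) {x : H}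
    (hx : x ∈ D ⊔ C) : ∃ d ∈ D, ∃ c ∈ C, x = d * c := by
  have h1 : x ∈ ((D ⊔ C : Subgroup H) : Set H) := hx
  rw [Subgroup.coe_mul_of_left_le_normalizer_right D C hDC] at h1
  obtain ⟨d, hd, c, hc, h⟩ := h1
  exact ⟨d, hd, c, hc, h.symm⟩

theorem mem_omegaOne_of {p : ℕ} {K : Subgroup H} {x : H} (hx : x ∈ K) (h : x ^ p = 1) :
    x ∈ omegaOne p K := Subgroup.subset_closure ⟨hx, h⟩

/-- `Y_L ≤ Ω₁(Z(O_p(L)))` -/
theorem largestPReducedOf_le_omegaOne (p : ℕ) (L : Subgroup H) :
    largestPReducedOf p L ≤ omegaOne p (pCoreOf p L ⊓ centralizer (pCoreOf p L : Set H)) := by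
  rintro _ ⟨x, hx, rfl⟩
  refine mem_omegaOne_of ⟨⟨x, largestPReduced_le_pCore p hx, rfl⟩, ?_⟩ ?_
  · change L.subtype x ∈ centralizer (pCoreOf p L : Set H)
    rw [mem_centralizer_iff]
    rintro _ ⟨y, hy, rfl⟩
    have := (mem_centralizer_iff.1 (pCore_le_centralizer_largest (L := L) p hy)) x hx
    exact (congrArg Subtype.val this).symm
  · have := (isElementaryAbelian_largest (L := L) p).2 x hx
    exact congrArg Subtype.val this

/-- `Y_L ≤ O_p(L)` -/
theorem largestPReducedOf_le_pCoreOf (p : ℕ) (L : Subgroup H) :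
    largestPReducedOf p L ≤ pCoreOf p L :=
  Subgroup.map_mono (largestPReduced_le_pCore p)

/-- `O_p(L)` centralizes `Y_L` -/
theorem pCoreOf_le_centralizer (p : ℕ) (L : Subgroup H) :
    pCoreOf p L ≤ centralizer (largestPReducedOf p L : Set H) := by
  rintro _ ⟨y, hy, rfl⟩
  rw [mem_centralizer_iff]
  rintro _ ⟨x, hx, rfl⟩
  have := (mem_centralizer_iff.1 (pCore_le_centralizer_largest (L := L) p hy)) x hx
  exact (congrArg Subtype.val this)

theorem largestPReducedOf_le (p : ℕ) (L : Subgroup H) : largestPReducedOf p L ≤ L :=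
  Subgroup.map_subtype_le _

/-- `Y_L` is normalized by `L` -/
theorem le_normalizer_largestPReducedOf (p : ℕ) (L : Subgroup H) :
    L ≤ normalizer (largestPReducedOf p L : Set H) := by
  intro g hg
  rw [mem_normalizer_iff]
  have hn := largestPReduced_normal (L := L) p
  intro x
  constructor
  · rintro ⟨y, hy, rfl⟩
    exact ⟨⟨g, hg⟩ * y * ⟨g, hg⟩⁻¹, hn.conj_mem y hy _, rfl⟩
  · rintro ⟨y, hy, hyx⟩
    refine ⟨⟨g, hg⟩⁻¹ * y * ⟨g, hg⟩, ?_, ?_⟩
    · have := hn.conj_mem y hy (⟨g, hg⟩⁻¹ : L)
      simpa using this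
    · have hyx' : (y : H) = g * x * g⁻¹ := hyx
      show g⁻¹ * (y : H) * g = x
      rw [hyx']; group

theorem isElementaryAbelian_largestPReducedOf (p : ℕ) (L : Subgroup H) :
    IsElementaryAbelian p (largestPReducedOf p L) := by
  refine ⟨⟨⟨?_⟩⟩, ?_⟩
  · rintro ⟨_, x, hx, rfl⟩ ⟨_, y, hy, rfl⟩
    have h := (isElementaryAbelian_largest (L := L) p).1
    have := h.is_comm.comm ⟨x, hx⟩ ⟨y, hy⟩
    exact Subtype.ext (congrArg (fun z : largestPReduced p L => ((z : L) : H)) this)
  · rintro _ ⟨x, hx, rfl⟩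
    have := (isElementaryAbelian_largest (L := L) p).2 x hx
    exact congrArg Subtype.val this

/-- `Z_L ≤ Y_L` if `L` has characteristic `p`. -/
theorem sylowCenterClosure_le_largestPReducedOf [Finite H] {p : ℕ} [Fact p.Prime] {L : Subgroup H}
    (hL : centralizer (pCore p L : Set L) ≤ pCore p L) :
    sylowCenterClosure p L ≤ largestPReducedOf p L := by
  refine iSup_le fun S => ?_
  unfold omegaOne
  rw [Subgroup.closure_le]
  rintro _ ⟨⟨⟨s, hs, rfl⟩, hc⟩, hp⟩
  refine ⟨s, le_largestPReduced (isPReducedNormal_closure_zSet hL)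
    (Subgroup.subset_closure ⟨S, hs, ?_, ?_⟩), rfl⟩
  · rw [mem_centralizer_iff]
    intro y hy
    have := (mem_centralizer_iff.1 hc) y ⟨y, hy, rfl⟩
    exact Subtype.ext this
  · exact Subtype.ext hp

/-- **Ambient criterion**: `V` is `p`-reduced normal in `L`. -/
theorem le_largestPReducedOf {p : ℕ} {L V : Subgroup H} (hVL : V ≤ L)
    (hn : L ≤ normalizer (V : Set H)) (he : IsElementaryAbelian p V)
    (h : ∀ D : Subgroup H, D ≤ L → L ≤ normalizer (D : Set H) →
      (∀ x ∈ D, ∃ k : ℕ, x ^ p ^ k ∈ centralizer (V : Set H)) →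
      D ≤ centralizer (V : Set H)) : V ≤ largestPReducedOf p L := by
  have hcen : ∀ x : L, x ∈ centralizer (V.subgroupOf L : Set L) ↔
      (x : H) ∈ centralizer (V : Set H) := by
    intro x
    rw [mem_centralizer_iff, mem_centralizer_iff]
    constructor
    · intro h v hv
      exact congrArg Subtype.val (h ⟨v, hVL hv⟩ hv)
    · intro h v hv
      exact Subtype.ext (h v hv)
  have hred : IsPReducedNormal p (V.subgroupOf L) := by
    rw [isPReducedNormal_iff]
    refine ⟨?_, ⟨⟨⟨?_⟩⟩, ?_⟩, ?_⟩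
    · exact (Subgroup.normal_subgroupOf_iff_le_normalizer hVL).2 hn
    · rintro ⟨⟨x, hx1⟩, hx⟩ ⟨⟨y, hy1⟩, hy⟩
      have := he.1.is_comm.comm ⟨x, hx⟩ ⟨y, hy⟩
      have h2 : x * y = y * x := congrArg Subtype.val this
      exact Subtype.ext (Subtype.ext h2)
    · rintro ⟨x, hx1⟩ hx
      exact Subtype.ext (he.2 x hx)
    · intro D hD _ hk
      have h1 := h (D.map L.subtype) (Subgroup.map_subtype_le _) ?_ ?_
      · intro x hx
        rw [hcen]
        exact h1 ⟨x, hx, rfl⟩
      · rw [← Subgroup.normal_subgroupOf_iff_le_normalizer (Subgroup.map_subtype_le _)]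
        have : (D.map L.subtype).subgroupOf L = D :=
          Subgroup.comap_map_eq_self_of_injective L.subtype_injective D
        rw [this]; exact hD
      · rintro _ ⟨x, hx, rfl⟩
        obtain ⟨k, hk⟩ := hk x hx
        rw [hcen] at hk
        exact ⟨k, hk⟩
  intro v hv
  exact ⟨⟨v, hVL hv⟩, le_largestPReduced hred hv, rfl⟩

/-- The defining property of `Y_L`, ambient form: no `p`-group is induced on `Y_L` by a normal subgroup of `L`. -/
theorem le_centralizer_largestPReducedOf {p : ℕ} {L D : Subgroup H} (hD : D ≤ L)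
    (hn : L ≤ normalizer (D : Set H))
    (hk : ∀ x ∈ D, ∃ k : ℕ, x ^ p ^ k ∈ centralizer (largestPReducedOf p L : Set H)) :
    D ≤ centralizer (largestPReducedOf p L : Set H) := by
  have hcen : ∀ x : L, x ∈ centralizer (largestPReduced p L : Set L) ↔
      (x : H) ∈ centralizer (largestPReducedOf p L : Set H) := by
    intro x
    rw [mem_centralizer_iff, mem_centralizer_iff]
    constructor
    · rintro h _ ⟨v, hv, rfl⟩
      exact congrArg Subtype.val (h v hv)
    · intro h v hv
      exact Subtype.ext (h v ⟨v, hv, rfl⟩)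
  obtain ⟨_, _, h3, h4⟩ := isPReducedNormal_largestPReduced (L := L) p
  have h5 := le_of_pCore_quotient_eq_bot h4 (D := D.subgroupOf L)
    ((Subgroup.normal_subgroupOf_iff_le_normalizer hD).2 hn) ?_
  · intro x hx
    exact (hcen ⟨x, hD hx⟩).1 (h5 hx)
  · intro x hx
    obtain ⟨k, hk⟩ := hk x hx
    exact ⟨k, (hcen _).2 hk⟩

/-- If `L C_H(Y_M) = M C_H(Y_M)` and `Y_M ≤ L` then `Y_M ≤ Y_L`. -/
theorem largestPReducedOf_le_of_sup_eq {p : ℕ} {L M : Subgroup H}
    (hYL : largestPReducedOf p M ≤ L)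
    (h : L ⊔ centralizer (largestPReducedOf p M : Set H) =
      M ⊔ centralizer (largestPReducedOf p M : Set H)) :
    largestPReducedOf p M ≤ largestPReducedOf p L := by
  set Y := largestPReducedOf p M with hY
  set C := centralizer (Y : Set H) with hC
  have hCY : C ≤ normalizer (Y : Set H) := Subgroup.centralizer_le_normalizer _
  have hMY : M ≤ normalizer (Y : Set H) := le_normalizer_largestPReducedOf p M
  have hLY : L ≤ normalizer (Y : Set H) :=
    (le_sup_left : L ≤ L ⊔ C).trans (h.le.trans (sup_le hMY hCY))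
  have hNC : normalizer (Y : Set H) ≤ normalizer (C : Set H) := by
    intro g hg
    rw [mem_normalizer_iff]
    have key : ∀ g ∈ normalizer (Y : Set H), ∀ x ∈ C, g * x * g⁻¹ ∈ C := by
      intro g hg x hx
      rw [hC, mem_centralizer_iff]
      intro y hy
      have h1 : g⁻¹ * y * g ∈ Y := by
        have := (mem_normalizer_iff.1 (inv_mem hg) y).1 hy
        simpa using this
      have h2 := (mem_centralizer_iff.1 hx) _ h1
      calc y * (g * x * g⁻¹) = g * ((g⁻¹ * y * g) * x) * g⁻¹ := by group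
        _ = g * (x * (g⁻¹ * y * g)) * g⁻¹ := by rw [h2]
        _ = g * x * g⁻¹ * y := by group
    intro x
    refine ⟨key g hg x, fun hx => ?_⟩
    have := key g⁻¹ (inv_mem hg) _ hx
    have e : g⁻¹ * (g * x * g⁻¹) * g⁻¹⁻¹ = x := by group
    rwa [e] at this
  apply le_largestPReducedOf hYL hLY (isElementaryAbelian_largestPReducedOf p M)
  intro D hDL hLD hk
  rw [← hC] at hk ⊢
  -- `D C` is normalized by `L C = M C`
  have h1 : L ≤ normalizer ((D ⊔ C : Subgroup H) : Set H) :=
    (le_inf hLD (hLY.trans hNC)).trans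
      (Subgroup.normalizer_inf_normalizer_le_normalizer_sup D C)
  have h2 : M ≤ normalizer ((D ⊔ C : Subgroup H) : Set H) := by
    refine (le_sup_left : M ≤ M ⊔ C).trans ?_
    rw [← h]
    exact sup_le h1 ((le_sup_right : C ≤ D ⊔ C).trans Subgroup.le_normalizer)
  have hDC : D ≤ normalizer (C : Set H) := (hDL.trans hLY).trans hNC
  -- elements of `D C`
  have h3 : ∀ x ∈ D ⊔ C, ∃ k : ℕ, x ^ p ^ k ∈ C := by
    intro x hx
    obtain ⟨d, hd, c, hc, rfl⟩ := exists_mul_of_mem_sup hDC hx
    obtain ⟨k, hk⟩ := hk d hd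
    refine ⟨k, ?_⟩
    have h5 : ∀ n : ℕ, ∃ c' ∈ C, (d * c) ^ n = d ^ n * c' := by
      intro n
      induction n with
      | zero => exact ⟨1, one_mem _, by simp⟩
      | succ n ih =>
        obtain ⟨c', hc', h6⟩ := ih
        refine ⟨(d⁻¹ * c' * d) * c, mul_mem ?_ hc, ?_⟩
        · have := (mem_normalizer_iff.1 (inv_mem (hDC hd)) c').1 hc'
          simpa using this
        · rw [pow_succ, h6, pow_succ]; group
    obtain ⟨c', hc', h6⟩ := h5 (p ^ k)
    rw [h6]
    exact mul_mem hk hc'
  have h4 : (D ⊔ C) ⊓ M ≤ C := by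
    refine le_centralizer_largestPReducedOf inf_le_right ?_ ?_
    · intro g hg
      rw [mem_normalizer_iff]
      intro x
      have hx1 := mem_normalizer_iff.1 (h2 hg) x
      have hx2 := mem_normalizer_iff.1 (Subgroup.le_normalizer hg : g ∈ normalizer (M : Set H)) x
      constructor
      · rintro ⟨ha, hb⟩
        exact ⟨hx1.1 ha, hx2.1 hb⟩
      · rintro ⟨ha, hb⟩
        exact ⟨hx1.2 ha, hx2.2 hb⟩
    · intro x hx
      exact h3 x hx.1
  intro d hd
  have h5 : d ∈ M ⊔ C := by
    rw [← h]
    exact mem_sup_left (hDL hd)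
  obtain ⟨m, hm, c, hc, rfl⟩ := exists_mul_of_mem_sup (hMY.trans hNC) h5
  have h6 : m ∈ D ⊔ C := by
    have := mul_mem (mem_sup_left hd : m * c ∈ D ⊔ C) (inv_mem (mem_sup_right hc : c ∈ D ⊔ C))
    simpa using this
  exact mul_mem (h4 ⟨h6, hm⟩) hc

end ambient

end Cfsg.Agent.H224.YL
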