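import Mathlib
import Cfsg.Agent.H504.ZerosLie
import Cfsg.Agent.H92.ExcOrd
import Cfsg.Agent.H378.ExcAdj
import Cfsg.Agent.Lib.Zsigmondy
import Cfsg.Agent.S1054
import Cfsg.Prelude.Def_LieTypeChar

/-!
# Zeros in the character table of `E₇(q)` (for S4895)

`big_e7` : the Steinberg character vanishes on nine elements of different orders divisible by the characteristic.
-/

set_option autoImplicit false

namespace Cfsg.Agent.H224.ZerosE7

open CoxeterSystem Cfsg Cfsg.Lie Cfsg.Lie.ChevalleyDatum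
open Cfsg.Agent.ChevalleyStructure.CoxeterGeomTypes
open Cfsg.Agent.Nodes.RGDChev
open Cfsg.Agent.BpExc.RowsUntw Cfsg.Agent.BpExc.FamInst
open Cfsg.Agent.H378.SmallTor Cfsg.Agent.H378.AdjTab Cfsg.Agent.H378.CycTab Cfsg.Agent.H378
open Cfsg.Agent.H92.KTools Cfsg.Agent.H92.ExcOrd Cfsg.Agent.H504.Zeros

variable {F : Type} [Field F] [Finite F] (p : ℕ) [hp : Fact p.Prime] [CharP F p]

theorem od_ge {q r e : ℕ} (hr : r.Prime) (he : 2 ≤ e) (h : orderOf (q : ZMod r) = e) : e + 1 ≤ r := by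
  have hq : ¬ r ∣ q := by
    intro h1
    have : Fact r.Prime := ⟨hr⟩
    have h2 : (q : ZMod r) = 0 := (ZMod.natCast_eq_zero_iff q r).2 h1
    rw [h2, orderOf_zero] at h
    omega
  have h1 := Lib.Zsigmondy.orderOf_dvd_pred hr hq
  rw [h] at h1
  have h2 := Nat.le_of_dvd (by have := hr.two_le; omega) h1
  omega

theorem ne_of_od {q r r' e e' : ℕ} (h : orderOf (q : ZMod r) = e) (h' : orderOf (q : ZMod r') = e') (hne : e ≠ e') :
    r ≠ r' := by
  rintro rfl
  exact hne (h.symm.trans h')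

/-- an element of order `p * r` from commuting elements -/
theorem hasOrd_of {q e r : ℕ} (hq : q = Nat.card F) (hr : r.Prime) (he : 2 ≤ e) (h : orderOf (q : ZMod r) = e)
    {X : Type} [Group X] (hx : ¬ r ∣ q - 1 → ∃ x u n : X, orderOf x = r ∧ orderOf u = p ∧ 2 ∣ orderOf n ∧
      Commute x u ∧ Commute x n) : HasOrd X (p * r) := by
  have : Fact r.Prime := ⟨hr⟩
  have hqp : p ∣ q := by
    have h1 : ((Nat.card F : ℕ) : F) = 0 := by
      have := Fintype.ofFinite F
      rw [Nat.card_eq_fintype_card, FiniteField.cast_card_eq_zero]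
    rw [hq, ← CharP.cast_eq_zero_iff F p]
    exact h1
  have h1 : ¬ r ∣ q - 1 := by
    intro h1
    have hq1 : 1 ≤ q := by rw [hq]; exact Nat.card_pos
    have h2 : ((q - 1 : ℕ) : ZMod r) = 0 := (ZMod.natCast_eq_zero_iff _ r).2 h1
    rw [Nat.cast_sub hq1, Nat.cast_one, sub_eq_zero] at h2
    rw [h2, orderOf_one] at h
    omega
  obtain ⟨x, u, -, hx, hu, -, hc, -⟩ := hx h1
  refine HasOrd.mul_of_commute hu hx hc.symm ?_
  rw [Nat.coprime_primes hp.out hr]
  rintro rfl
  have h2 : (q : ZMod p) = 0 := (ZMod.natCast_eq_zero_iff q p).2 hqp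
  rw [h2, orderOf_zero] at h
  omega

theorem e7_rows : ∃ r3 r4 r5 r8 r10 : ℕ, r3.Prime ∧ r4.Prime ∧ r5.Prime ∧ r8.Prime ∧ r10.Prime ∧
    orderOf ((Nat.card F : ℕ) : ZMod r3) = 3 ∧ orderOf ((Nat.card F : ℕ) : ZMod r4) = 4 ∧
    orderOf ((Nat.card F : ℕ) : ZMod r5) = 5 ∧ orderOf ((Nat.card F : ℕ) : ZMod r8) = 8 ∧
    orderOf ((Nat.card F : ℕ) : ZMod r10) = 10 ∧
    HasOrd (chevE7.group F) (p * r3) ∧ HasOrd (chevE7.group F) (p * r4) ∧ HasOrd (chevE7.group F) (p * r5) ∧
    HasOrd (chevE7.group F) (p * r8) ∧ HasOrd (chevE7.group F) (p * r10) := by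
  let cs : CoxeterSystem CoxeterMatrix.E₇ CoxeterMatrix.E₇.Group := CoxeterMatrix.E₇.toCoxeterSystem
  have := finite_W e7T cs
  have hq : 2 ≤ Nat.card F := Finite.one_lt_card
  obtain ⟨r3, h3, o3⟩ := Lib.Zsigmondy.exists_prime_orderOf (n := 3) hq (by omega) (by omega) (by omega)
  obtain ⟨r4, h4, o4⟩ := Lib.Zsigmondy.exists_prime_orderOf (n := 4) hq (by omega) (by omega) (by omega)
  obtain ⟨r5, h5, o5⟩ := Lib.Zsigmondy.exists_prime_orderOf (n := 5) hq (by omega) (by omega) (by omega)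
  obtain ⟨r8, h8, o8⟩ := Lib.Zsigmondy.exists_prime_orderOf (n := 8) hq (by omega) (by omega) (by omega)
  obtain ⟨r10, h10, o10⟩ := Lib.Zsigmondy.exists_prime_orderOf (n := 10) hq (by omega) (by omega) (by omega)
  refine ⟨r3, r4, r5, r8, r10, h3, h4, h5, h8, h10, o3, o4, o5, o8, o10, ?_, ?_, ?_, ?_, ?_⟩
  · exact hasOrd_of p (F := F) rfl h3 (by omega) o3 fun h => exists_comm_row e7T cs inv_E7 two_ne_zero AdjE7.hA
      AdjE7.lt_nroots AdjE7.row3 h3 h (dvd3 h3 o3)
  · exact hasOrd_of p (F := F) rfl h4 (by omega) o4 fun h => exists_comm_row e7T cs inv_E7 two_ne_zero AdjE7.hA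
      AdjE7.lt_nroots AdjE7.row4 h4 h (dvd4 h4 o4)
  · exact hasOrd_of p (F := F) rfl h5 (by omega) o5 fun h => exists_comm_row e7T cs inv_E7 two_ne_zero AdjE7.hA
      AdjE7.lt_nroots AdjE7.row5 h5 h (dvd5 h5 o5)
  · exact hasOrd_of p (F := F) rfl h8 (by omega) o8 fun h => exists_comm_row e7T cs inv_E7 two_ne_zero AdjE7.hA
      AdjE7.lt_nroots AdjE7.row8 h8 h (dvd8 h8 o8)
  · exact hasOrd_of p (F := F) rfl h10 (by omega) o10 fun h => exists_comm_row e7T cs inv_E7 two_ne_zero AdjE7.hA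
      AdjE7.lt_nroots AdjE7.row10 h10 h (dvd10 h10 o10)

theorem e7_row6 (h2 : Nat.card F ≠ 2) : ∃ r6 : ℕ, r6.Prime ∧ orderOf ((Nat.card F : ℕ) : ZMod r6) = 6 ∧
    HasOrd (chevE7.group F) (p * r6) := by
  let cs : CoxeterSystem CoxeterMatrix.E₇ CoxeterMatrix.E₇.Group := CoxeterMatrix.E₇.toCoxeterSystem
  have := finite_W e7T cs
  have hq : 2 ≤ Nat.card F := Finite.one_lt_card
  obtain ⟨r3, h3, o3⟩ := Lib.Zsigmondy.exists_prime_orderOf (n := 6) hq (by omega) (by omega) (by omega)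
  exact ⟨r3, h3, o3, hasOrd_of p (F := F) rfl h3 (by omega) o3 fun h => exists_comm_row e7T cs inv_E7 two_ne_zero
    AdjE7.hA AdjE7.lt_nroots AdjE7.row6 h3 h (dvd6 h3 o3)⟩

theorem e7_odd (h2 : p ≠ 2) :
    HasOrd (chevE7.group F) 4 ∧ HasOrd (chevE7.group F) (2 * p) ∧ HasOrd (chevE7.group F) (4 * p) :=
  ords_odd (D := chevE7) (by simp) (i := 0) (s := 73) (r := 78) (by decide +kernel) (by decide +kernel)
    (by decide +kernel) (by decide +kernel) (by decide +kernel) (by decide +kernel) p h2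

omit [Finite F] [CharP F p] in
theorem e7_two (hF : (2 : F) = 0) :
    HasOrd (chevE7.group F) 4 ∧ HasOrd (chevE7.group F) 6 ∧ HasOrd (chevE7.group F) 12 :=
  ords_two (D := chevE7) (by simp) (r := 93) (s := 73) (k := 94) (j := 78) (c := -1) (by decide +kernel) (by decide +kernel)
    (by decide +kernel) (by decide +kernel) (by decide +kernel) (by decide +kernel) (by decide +kernel) (by decide +kernel) (by decide +kernel) (by decide +kernel) (by decide +kernel) hF

theorem e7_p : HasOrd (chevE7.group F) p := by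
  refine ⟨⟨Cfsg.Agent.ChevalleyStructure.Elts.xG (D := chevE7) (by simp) 93 1,
    Cfsg.Agent.ChevalleyStructure.Elts.xG_mem_group _ _ _⟩, ?_⟩
  rw [← coe_orderOf]
  exact orderOf_xG (D := chevE7) (by simp) (r := 93) (by decide +kernel) p

theorem card_image_mul {p : ℕ} (hp : 0 < p) {l : List ℕ} (hl : l.Nodup) :
    (l.toFinset.image fun n => p * n).card = l.length := by
  rw [Finset.card_image_of_injective _ fun a b h => Nat.eq_of_mul_eq_mul_left hp h,
    List.toFinset_card_of_nodup hl]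

omit hp in
/-- **The row `E₇`.** -/
theorem big_e7 {F : Type} [Field F] [Fintype F] : Cfsg.Agent.H504.Zeros.Big (Cfsg.Lie.chevE7.group F) := by
  obtain ⟨p, hpc⟩ := CharP.exists F
  have hpr : p.Prime := CharP.char_is_prime F p
  have : Fact p.Prime := ⟨hpr⟩
  have : IsSimpleGroup ↥(chevE7.group F) := (S1054.result chevE7 (by simp)).1
  have hL : IsLieTypeChar p ↥(chevE7.group F) := by
    refine Or.inr (Or.inr (Or.inr (Or.inr (Or.inr (Or.inr (Or.inl ⟨F, inferInstance, inferInstance, hpc, ?_⟩))))))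
    exact Or.inr (Or.inr (Or.inr (Or.inl ⟨MulEquiv.refl _⟩)))
  have hdz := hasDZ_of_hasSt (Cfsg.Agent.H167.StChar.hasSt_of_lie hpr hL)
  obtain ⟨r3, r4, r5, r8, r10, h3, h4, h5, h8, h10, o3, o4, o5, o8, o10, H3, H4, H5, H8, H10⟩ := e7_rows (F := F) p
  have g3 := od_ge h3 (by norm_num) o3
  have g4 := od_ge h4 (by norm_num) o4
  have g5 := od_ge h5 (by norm_num) o5
  have g8 := od_ge h8 (by norm_num) o8
  have g10 := od_ge h10 (by norm_num) o10
  have hn : ∀ r : ℕ, r.Prime → 4 ≤ r → r ≠ 4 ∧ r ≠ 6 := by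
    intro r hr _
    constructor <;> rintro rfl
    · exact absurd hr (by norm_num)
    · exact absurd hr (by norm_num)
  have n34 := ne_of_od o3 o4 (by norm_num)
  have n35 := ne_of_od o3 o5 (by norm_num)
  have n38 := ne_of_od o3 o8 (by norm_num)
  have n310 := ne_of_od o3 o10 (by norm_num)
  have n45 := ne_of_od o4 o5 (by norm_num)
  have n48 := ne_of_od o4 o8 (by norm_num)
  have n410 := ne_of_od o4 o10 (by norm_num)
  have n58 := ne_of_od o5 o8 (by norm_num)
  have n510 := ne_of_od o5 o10 (by norm_num)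
  have n810 := ne_of_od o8 o10 (by norm_num)
  have k3 := hn r3 h3 (by omega)
  have k4 := hn r4 h4 (by omega)
  have k5 := hn r5 h5 (by omega)
  have k8 := hn r8 h8 (by omega)
  have k10 := hn r10 h10 (by omega)
  by_cases h2 : p = 2
  · subst h2
    obtain ⟨A4, A6, A12⟩ := e7_two (F := F) (by exact_mod_cast CharP.cast_eq_zero F 2)
    have hl : [1, 2, 3, 6, r3, r4, r5, r8, r10].Nodup := by
      simp only [List.nodup_cons, List.mem_cons, List.not_mem_nil, or_false, not_or, not_false_eq_true,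
        List.nodup_nil, and_true]
      omega
    refine big_of_orders hdz (([1, 2, 3, 6, r3, r4, r5, r8, r10].toFinset).image fun n => 2 * n) ?_
      (by rw [card_image_mul (by norm_num) hl]; rfl)
    intro n hn
    obtain ⟨m, hm, rfl⟩ := Finset.mem_image.1 hn
    refine ⟨dvd_mul_right _ _, ?_⟩
    simp only [List.toFinset_cons, List.toFinset_nil, insert_empty_eq, Finset.mem_insert, Finset.mem_singleton] at hm
    rcases hm with rfl | rfl | rfl | rfl | rfl | rfl | rfl | rfl | rfl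
    · exact e7_p (F := F) 2
    · exact A4
    · exact A6
    · exact A12
    · exact H3
    · exact H4
    · exact H5
    · exact H8
    · exact H10
  · have hq2 : Nat.card F ≠ 2 := by
      intro h
      have h1 : ((Nat.card F : ℕ) : F) = 0 := by rw [Nat.card_eq_fintype_card, FiniteField.cast_card_eq_zero]
      rw [CharP.cast_eq_zero_iff F p, h, Nat.prime_dvd_prime_iff_eq hpr Nat.prime_two] at h1
      exact h2 h1
    obtain ⟨r6, h6, o6, H6⟩ := e7_row6 (F := F) p hq2
    have g6 := od_ge h6 (by norm_num) o6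
    have n36 := ne_of_od o3 o6 (by norm_num)
    have n46 := ne_of_od o4 o6 (by norm_num)
    have n56 := ne_of_od o5 o6 (by norm_num)
    have n68 := ne_of_od o6 o8 (by norm_num)
    have n610 := ne_of_od o6 o10 (by norm_num)
    have k6 := hn r6 h6 (by omega)
    obtain ⟨A4, A2p, A4p⟩ := e7_odd (F := F) p h2
    have hl : [1, 2, 4, r3, r4, r5, r6, r8, r10].Nodup := by
      simp only [List.nodup_cons, List.mem_cons, List.not_mem_nil, or_false, not_or, not_false_eq_true,
        List.nodup_nil, and_true]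
      omega
    refine big_of_orders hdz (([1, 2, 4, r3, r4, r5, r6, r8, r10].toFinset).image fun n => p * n) ?_
      (by rw [card_image_mul hpr.pos hl]; rfl)
    intro n hn
    obtain ⟨m, hm, rfl⟩ := Finset.mem_image.1 hn
    refine ⟨dvd_mul_right _ _, ?_⟩
    simp only [List.toFinset_cons, List.toFinset_nil, insert_empty_eq, Finset.mem_insert, Finset.mem_singleton] at hm
    rcases hm with rfl | rfl | rfl | rfl | rfl | rfl | rfl | rfl | rfl
    · rw [mul_one]; exact e7_p (F := F) p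
    · rw [mul_comm]; exact A2p
    · rw [mul_comm]; exact A4p
    · exact H3
    · exact H4
    · exact H5
    · exact H6
    · exact H8
    · exact H10

end Cfsg.Agent.H224.ZerosE7
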